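import Cfsg.Agent.UMult.Block
import Cfsg.Agent.MinIdxU3.Point
import Cfsg.Agent.Spectrum.MatrixOrder
import Mathlib.LinearAlgebra.Matrix.GeneralLinearGroup.Card

/-!
`SU₃(q)` in cross characteristic: block stabiliser, Singer torus and, for the prime three, the
monomial group.
-/

set_option autoImplicit false
set_option linter.style.haveILetI false
set_option linter.unusedSectionVars false

namespace CfsgLib.UMult

open Matrix CfsgLib.Unitary CfsgLib.Forms CfsgLib.Phan CfsgLib.Multiplier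
open CfsgLib.MinIdxPSU (diagSU diagSU_apply)
open scoped commutatorElement Pointwise

universe u

variable {F : Type u} [Field F] [Finite F] {q : ℕ} (hF : Nat.card F = q ^ 2)

include hF

theorem card_su_three : Nat.card (Cfsg.SU 3 F q) = q ^ 3 * (q ^ 2 - 1) * (q ^ 3 + 1) :=
  MinIdxU3.card_G3 hF

theorem card_su_two : Nat.card (Cfsg.SU 2 F q) = q * (q ^ 2 - 1) := by
  have h1 := card_SU_mul hF (n := 2) (by norm_num)
  rw [card_GU hF, Finset.prod_range_succ, Finset.prod_range_succ, Finset.prod_range_zero] at h1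
  norm_num at h1
  refine Nat.eq_of_mul_eq_mul_left (show 0 < q + 1 by omega) (h1.trans ?_)
  ring

theorem index_lineStab_three :
    (lineStab 3 F q (Fin.last 2)).index = q ^ 2 * (q ^ 2 + 1 - q) := by
  have h := index_lineStab hF (m := 2) (by norm_num)
  rw [card_su_two hF] at h
  have hq := two_le_q hF
  have h2 : 0 < q * (q ^ 2 - 1) * (q + 1) := by
    have : 2 ^ 2 ≤ q ^ 2 := Nat.pow_le_pow_left hq 2
    exact Nat.mul_pos (Nat.mul_pos (by omega) (by omega)) (by omega)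
  refine Nat.eq_of_mul_eq_mul_right h2 (h.trans ((card_su_three hF).trans ?_))
  have h3 : q ^ 2 + 1 - q + q = q ^ 2 + 1 := by
    have : q ≤ q ^ 2 := Nat.le_self_pow two_ne_zero q
    omega
  have h4 : q ^ 3 + 1 = (q + 1) * (q ^ 2 + 1 - q) := by
    zify [show q ≤ q ^ 2 + 1 by omega]
    ring
  rw [h4]
  ring

/-- The block case. -/
theorem noStem_three_block (p : ℕ) [Fact p.Prime] [CharP F p] {ℓ : ℕ} (hℓ : ℓ.Prime) (hℓp : ℓ ≠ p)
    (hd : ¬ ℓ ∣ q ^ 2 + 1 - q) : NoStem (Cfsg.SU 3 F q) ℓ := by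
  haveI := Fintype.ofFinite F
  obtain ⟨k, -, hqk⟩ := FiniteField.card F p
  rw [← Nat.card_eq_fintype_card, hF] at hqk
  refine noStem_of_loc hℓ (lineStab 3 F q (Fin.last 2)) ?_
    (loc_line hF (m := 2) (by norm_num) (by norm_num) p hℓ hℓp (noStem_su_two hF p hℓ hℓp))
  rw [index_lineStab_three hF, hℓ.dvd_mul, not_or]
  refine ⟨fun h => hℓp ?_, hd⟩
  rw [hqk] at h
  exact (Nat.prime_dvd_prime_iff_eq hℓ Fact.out).1 (hℓ.dvd_of_dvd_pow h)

/-- The Singer case. -/
theorem noStem_three_singer {ℓ : ℕ} (hℓ : ℓ.Prime) (hd : ℓ ∣ q ^ 2 + 1 - q) (hd' : ¬ ℓ ∣ q ^ 2 - 1) :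
    NoStem (Cfsg.SU 3 F q) ℓ := by
  classical
  haveI := Fact.mk hℓ
  haveI := Fintype.ofFinite F
  have hFc : Fintype.card F = q ^ 2 := by rw [← Nat.card_eq_fintype_card, hF]
  have hqle : q ≤ q ^ 2 := Nat.le_self_pow two_ne_zero q
  have hnq : ¬ ℓ ∣ q := fun h => by
    have h1 : ℓ ∣ q ^ 2 + 1 - q + q := dvd_add hd h
    rw [show q ^ 2 + 1 - q + q = q ^ 2 + 1 by omega] at h1
    exact hℓ.not_dvd_one ((Nat.dvd_add_right (dvd_pow h two_ne_zero)).1 h1)
  have hn4 : ¬ ℓ ∣ q ^ 2 + 1 := fun h => hnq (by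
    have h1 := Nat.dvd_sub h hd
    rwa [show q ^ 2 + 1 - (q ^ 2 + 1 - q) = q by omega] at h1)
  obtain ⟨g, hg⟩ := MatOrder.exists_gl_orderOf_singer F (i := 3) (by norm_num)
  set T := Subgroup.zpowers g
  haveI : IsCyclic T := Subgroup.isCyclic_zpowers g
  have hidx : ¬ ℓ ∣ T.index := by
    have hc := T.card_mul_index
    rw [Nat.card_zpowers, hg, hFc, Matrix.card_GL_field, hFc, Fin.prod_univ_three] at hc
    simp only [Fin.val_zero, Fin.val_one, Fin.val_two, pow_zero, pow_one] at hc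
    have hQ : 4 ≤ q ^ 2 := by have := Nat.pow_le_pow_left (two_le_q hF) 2; omega
    have hpos : 0 < (q ^ 2) ^ 3 - 1 := by
      have : 4 ^ 3 ≤ (q ^ 2) ^ 3 := Nat.pow_le_pow_left hQ 3
      omega
    rw [mul_assoc] at hc
    rw [Nat.eq_of_mul_eq_mul_left hpos hc]
    have e1 : (q ^ 2) ^ 3 - q ^ 2 = q ^ 2 * ((q ^ 2 - 1) * (q ^ 2 + 1)) := by
      zify [show q ^ 2 ≤ (q ^ 2) ^ 3 from Nat.le_self_pow (by norm_num) _, show 1 ≤ q ^ 2 by omega]
      ring
    have e2 : (q ^ 2) ^ 3 - (q ^ 2) ^ 2 = (q ^ 2) ^ 2 * (q ^ 2 - 1) := by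
      zify [show (q ^ 2) ^ 2 ≤ (q ^ 2) ^ 3 from Nat.pow_le_pow_right (by omega) (by norm_num),
        show 1 ≤ q ^ 2 by omega]
      ring
    rw [e1, e2]
    intro h
    rcases hℓ.dvd_mul.1 h with h | h <;> rcases hℓ.dvd_mul.1 h with h | h
    · exact hnq (hℓ.dvd_of_dvd_pow h)
    · rcases hℓ.dvd_mul.1 h with h | h
      · exact hd' h
      · exact hn4 h
    · exact hnq (hℓ.dvd_of_dvd_pow (hℓ.dvd_of_dvd_pow h))
    · exact hd' h
  let ι : Cfsg.SU 3 F q →* GL (Fin 3) F := Matrix.SpecialLinearGroup.toGL.comp (Cfsg.SU 3 F q).subtype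
  have hι : Function.Injective ι := fun a b e =>
    Subtype.ext (Subtype.ext (congrArg Units.val e))
  obtain ⟨P⟩ : Nonempty (Sylow ℓ (Cfsg.SU 3 F q)) := inferInstance
  obtain ⟨Q, hQ⟩ := (P.isPGroup'.map ι).exists_le_sylow
  obtain ⟨c, hc⟩ := SL2C.sylow_exists_conj_le Q T hidx
  haveI : IsCyclic (T.map (MulAut.conj c).toMonoidHom) :=
    isCyclic_of_surjective _ ((MulAut.conj c).toMonoidHom.subgroupMap_surjective _)
  haveI : IsCyclic ((P : Subgroup (Cfsg.SU 3 F q)).map ι) :=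
    isCyclic_of_injective (Subgroup.inclusion (hQ.trans hc)) (Subgroup.inclusion_injective _)
  haveI : IsCyclic (P : Subgroup (Cfsg.SU 3 F q)) :=
    isCyclic_of_injective
      (Subgroup.equivMapOfInjective (P : Subgroup (Cfsg.SU 3 F q)) ι hι).toMonoidHom
      (MulEquiv.injective _)
  exact noStem_of_loc hℓ P P.not_dvd_index loc_of_cyclic

/-- The diagonal torus, as a map. -/
noncomputable def dd : (powMonoidHom (q + 1) : Fˣ →* Fˣ).ker × (powMonoidHom (q + 1) : Fˣ →* Fˣ).ker →*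
    Cfsg.SU 3 F q where
  toFun x := diagSU ![((x.1 : Fˣ) : F), (((x.1 : Fˣ)⁻¹ * (x.2 : Fˣ) : Fˣ) : F), (((x.2 : Fˣ)⁻¹ : Fˣ) : F)]
    (fun i => by
      have h : ∀ y : (powMonoidHom (q + 1) : Fˣ →* Fˣ).ker, ((y : Fˣ) : F) * ((y : Fˣ) : F) ^ q = 1 :=
        fun y => by
          rw [← pow_succ', ← Units.val_pow_eq_pow_val, show (y : Fˣ) ^ (q + 1) = 1 from y.2, Units.val_one]
      fin_cases i
      · exact h x.1
      · exact h (x.1⁻¹ * x.2)
      · exact h x.2⁻¹)
    (by simp [Fin.prod_univ_three])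
  map_one' := Phan.act_eq_of_basis fun k => by
    funext j
    show (suMat (diagSU _ _ _) *ᵥ _) j = _
    rw [diagSU_apply, act_one]
    fin_cases j <;> simp
  map_mul' a b := Phan.act_eq_of_basis fun k => by
    rw [act_mul]
    funext j
    show (suMat (diagSU _ _ _) *ᵥ _) j = (suMat (diagSU _ _ _) *ᵥ (suMat (diagSU _ _ _) *ᵥ _)) j
    rw [diagSU_apply, diagSU_apply, diagSU_apply]
    fin_cases j <;> simp <;> ring

theorem act_dd (x : (powMonoidHom (q + 1) : Fˣ →* Fˣ).ker × (powMonoidHom (q + 1) : Fˣ →* Fˣ).ker)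
    (k : Fin 3) : act (dd (q := q) x) (ev k) =
      ![((x.1 : Fˣ) : F), (((x.1 : Fˣ)⁻¹ * (x.2 : Fˣ) : Fˣ) : F), (((x.2 : Fˣ)⁻¹ : Fˣ) : F)] k • ev k := by
  funext j
  rw [act, dd, MonoidHom.coe_mk, OneHom.coe_mk, diagSU_apply]
  by_cases h : j = k
  · subst h; simp [ev]
  · simp [ev, h]

theorem dd_injective : Function.Injective (dd (F := F) (q := q)) := by
  rw [injective_iff_map_eq_one]
  intro x hx
  have h0 := congrFun (act_dd hF x 0) 0
  have h2 := congrFun (act_dd hF x 2) 2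
  rw [hx, act_one] at h0 h2
  simp [ev] at h0 h2
  exact Prod.ext (Subtype.ext (Units.ext h0.symm)) h2

/-- A monomial element conjugates the torus into itself. -/
theorem conj_dd {g : Cfsg.SU 3 F q} {π : Equiv.Perm (Fin 3)} {e : Fin 3 → F}
    (hg : ∀ k, act g (ev k) = e k • ev (π k))
    {x y : (powMonoidHom (q + 1) : Fˣ →* Fˣ).ker × (powMonoidHom (q + 1) : Fˣ →* Fˣ).ker}
    (h : ∀ k, act (dd (q := q) x) (ev k) k = act (dd (q := q) y) (ev (π k)) (π k)) :
    g * dd (q := q) x * g⁻¹ = dd (q := q) y := by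
  rw [mul_inv_eq_iff_eq_mul]
  refine Phan.act_eq_of_basis fun k => ?_
  have hk := h k
  rw [act_dd hF x k, act_dd hF y (π k), Pi.smul_apply, Pi.smul_apply,
    show (ev k : Fin 3 → F) k = 1 by simp [ev], show (ev (π k) : Fin 3 → F) (π k) = 1 by simp [ev],
    smul_eq_mul, smul_eq_mul, mul_one, mul_one] at hk
  rw [act_mul, act_mul, act_dd hF, act_smul, hg, act_smul, act_dd hF, smul_smul, smul_smul, hk,
    mul_comm]

set_option maxHeartbeats 800000 in
/-- The prime three dividing `q + 1`. -/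
theorem noStem_three_three (hq : 3 ≤ q) (h3 : 3 ∣ q + 1) : NoStem (Cfsg.SU 3 F q) 3 := by
  classical
  set μ := (powMonoidHom (q + 1) : Fˣ →* Fˣ).ker
  obtain ⟨s01, hs01⟩ := exists_swap hF (n := 3) (a := 0) (b := 1) (by decide) 2
  obtain ⟨s12, hs12⟩ := exists_swap hF (n := 3) (a := 1) (b := 2) (by decide) 0
  let c3 : Equiv.Perm (Fin 3) := (Equiv.swap 1 2).trans (Equiv.swap 0 1)
  set u := s01 * s12 with hu
  obtain ⟨e, he⟩ : ∃ e : Fin 3 → F, ∀ k, act u (ev k) = e k • ev (c3 k) := by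
    refine ⟨fun k => (if k = 0 then -1 else 1) * (if Equiv.swap (1 : Fin 3) 2 k = 2 then -1 else 1),
      fun k => ?_⟩
    rw [hu, act_mul, hs12, act_smul, hs01, smul_smul]
    rfl
  set D := (dd (F := F) (q := q)).range with hD
  have hτ : ∀ x y : μ, u * dd (q := q) (x, y) * u⁻¹ = dd (q := q) (y⁻¹, y⁻¹ * x) := fun x y => by
    refine conj_dd hF he fun k => ?_
    rw [act_dd hF, act_dd hF]
    fin_cases k <;> simp [ev, c3, Equiv.swap_apply_def] <;> field_simp
  have hnorm : Subgroup.zpowers u ≤ Subgroup.normalizer (D : Set (Cfsg.SU 3 F q)) := by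
    rw [Subgroup.zpowers_le, Subgroup.mem_normalizer_iff_map_conj_eq]
    refine Subgroup.eq_of_le_of_card_ge ?_
      (le_of_eq (Subgroup.card_map_of_injective (MulAut.conj u).injective).symm)
    rintro _ ⟨_, ⟨⟨x, y⟩, rfl⟩, rfl⟩
    exact ⟨_, (hτ x y).symm⟩
  set H := Subgroup.zpowers u ⊔ D with hH
  have hHmem : ∀ h ∈ H, ∃ i : ℤ, ∃ d ∈ D, h = d * u ^ i := fun h hh => by
    have h' : h ∈ ((Subgroup.zpowers u : Subgroup _) : Set (Cfsg.SU 3 F q)) * (D : Set (Cfsg.SU 3 F q)) := by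
      rw [← Subgroup.coe_mul_of_left_le_normalizer_right _ _ hnorm]; exact hh
    obtain ⟨_, ⟨i, rfl⟩, d, hd, rfl⟩ := Set.mem_mul.1 h'
    exact ⟨i, u ^ i * d * (u ^ i)⁻¹,
      (Subgroup.mem_normalizer_iff.1 (hnorm ⟨i, rfl⟩) d).1 hd, by group⟩
  have hcardD : Nat.card D = (q + 1) * (q + 1) := by
    rw [hD, ← Nat.card_congr (MonoidHom.ofInjective (dd_injective hF)).toEquiv, Nat.card_prod,
      card_normOne hF]
  have hidx : ¬ 3 ∣ H.index := by
    have hDH : D ≤ H := le_sup_right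
    haveI hn : (D.subgroupOf H).Normal :=
      (Subgroup.normal_subgroupOf_iff_le_normalizer hDH).2 (sup_le hnorm Subgroup.le_normalizer)
    have huH : u ∈ H := le_sup_left (a := Subgroup.zpowers u) (Subgroup.mem_zpowers u)
    have hu3 : u ^ 3 ∈ D := by
      have hk : ∀ k, act (u ^ 3) (ev k) = (e (c3 (c3 k)) * e (c3 k) * e k) • ev k := fun k => by
        rw [pow_succ, pow_two, act_mul, act_mul, he, act_smul, act_smul, he, act_smul, he, smul_smul,
          smul_smul]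
        congr 1
        · ring
        · exact congrArg _ (by fin_cases k <;> rfl)
      set v : Fin 3 → F := fun k => e (c3 (c3 k)) * e (c3 k) * e k
      have hv : ∀ k, v k * v k ^ q = 1 := fun k => by
        have h := act_herm (u ^ 3) (ev k : Fin 3 → F) (ev k)
        rw [hk, herm_smul_left, herm_smul_right hF, herm_ev hF, if_pos rfl, mul_one] at h
        exact h
      let w : Fin 3 → μ := fun k => ⟨Units.mkOfMulEqOne (v k) _ (hv k), Units.ext (by
        show (v k) ^ (q + 1) = 1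
        rw [pow_succ']; exact hv k)⟩
      have hdiag : suMat (u ^ 3) = Matrix.diagonal v := Matrix.ext_of_mulVec_single fun k => by
        show act (u ^ 3) (ev k) = _
        rw [hk]
        funext j
        rw [Matrix.mulVec_diagonal]
        by_cases h : j = k
        · subst h; simp [ev, v]
        · simp [ev, h]
      have hprod : v 0 * v 1 * v 2 = 1 := by
        have h := (u ^ 3).1.2
        change (suMat (u ^ 3)).det = 1 at h
        rwa [hdiag, Matrix.det_diagonal, Fin.prod_univ_three] at h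
      refine ⟨(w 0, (w 2)⁻¹), Phan.act_eq_of_basis fun k => ?_⟩
      rw [hk, act_dd hF]
      have h1 : v 1 = (v 0)⁻¹ * (v 2)⁻¹ := by
        rw [← mul_inv]
        exact eq_inv_of_mul_eq_one_left (by linear_combination hprod)
      have hw : ∀ k, ((w k : Fˣ) : F) = v k := fun k => rfl
      show _ = v k • (ev k : Fin 3 → F)
      congr 1
      fin_cases k <;> simp [hw, h1]
    have hne : u ∉ D := by
      rintro ⟨x, hx⟩
      have h := congrFun (he 0) 0
      rw [← hx, act_dd hF] at h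
      simp [ev, c3, Equiv.swap_apply_def] at h
    have hord : orderOf (QuotientGroup.mk' (D.subgroupOf H) ⟨u, huH⟩) = 3 := by
      refine orderOf_eq_prime ?_ fun e0 => hne ?_
      · rw [← map_pow]
        exact (QuotientGroup.eq_one_iff _).2 hu3
      · exact (QuotientGroup.eq_one_iff (N := D.subgroupOf H) _).1 e0
    have hdvd : (q + 1) * (q + 1) * 3 ∣ Nat.card H := by
      rw [← (D.subgroupOf H).card_mul_index, Nat.card_congr (Subgroup.subgroupOfEquivOfLe hDH).toEquiv,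
        hcardD, Subgroup.index_eq_card]
      exact mul_dvd_mul_left _ (hord.symm.dvd.trans (orderOf_dvd_natCard _))
    intro h
    obtain ⟨j, hj⟩ := h
    obtain ⟨r, hr⟩ := hdvd
    have hG := H.card_mul_index
    rw [card_su_three hF, hr, hj] at hG
    obtain ⟨a, ha⟩ := h3
    obtain rfl : q = 3 * a - 1 := by omega
    obtain ⟨b, rfl⟩ : ∃ b, a = b + 1 := ⟨a - 1, by omega⟩
    rw [show 3 * (b + 1) - 1 = 3 * b + 2 by omega] at hG
    have e1 : ((3 * b + 2) ^ 2 - 1 : ℕ) = (3 * b + 1) * (3 * b + 3) := by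
      rw [Nat.sub_eq_iff_eq_add (Nat.one_le_pow _ _ (by omega))]; ring
    have e2 : (3 * b + 2) ^ 3 + 1 = (3 * b + 3) * (3 * (3 * b ^ 2 + 3 * b + 1)) := by ring
    rw [e1, e2] at hG
    have h' : (3 * b + 3) * (3 * b + 3) * 3 * (3 * (r * j)) =
        (3 * b + 3) * (3 * b + 3) * 3 * ((3 * b + 2) ^ 3 * (3 * b + 1) * (3 * b ^ 2 + 3 * b + 1)) := by
      linear_combination hG
    have h'' := Nat.eq_of_mul_eq_mul_left (by positivity) h'
    have h3' : 3 ∣ (3 * b + 2) ^ 3 * (3 * b + 1) * (3 * b ^ 2 + 3 * b + 1) := h'' ▸ dvd_mul_right _ _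
    rw [Nat.prime_three.dvd_mul, Nat.prime_three.dvd_mul] at h3'
    rcases h3' with (h | h) | h
    · have := Nat.prime_three.dvd_of_dvd_pow h
      omega
    · omega
    · have : 3 ∣ 3 * b ^ 2 + 3 * b := ⟨b ^ 2 + b, by ring⟩
      omega
  refine noStem_of_loc Nat.prime_three H hidx ?_
  intro Γ _ _ σ hsur hc hcard z hz hzm
  have hk3 : ∀ x, σ x = 1 → x ^ 3 = 1 := fun x hx => by
    have := pow_card_eq_one' (x := (⟨x, hx⟩ : σ.ker))
    rw [hcard] at this
    exact congrArg Subtype.val this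
  obtain ⟨a, ha⟩ := IsCyclic.exists_generator (α := μ)
  obtain ⟨l1, hl1⟩ := hsur (dd (q := q) (a, 1))
  obtain ⟨l2, hl2⟩ := hsur (dd (q := q) (1, a))
  obtain ⟨ls, hls⟩ := hsur s01
  have hc1 : σ l1 * σ l2 = σ l2 * σ l1 := by rw [hl1, hl2, ← map_mul, ← map_mul, mul_comm]
  have hone : ⁅l1, l2⁆ = 1 := by
    have e1 : σ (ls * l1 * ls⁻¹) = σ l1⁻¹ := by
      rw [map_mul, map_mul, map_inv, map_inv, hls, hl1, ← map_inv]
      refine conj_dd hF hs01 fun k => ?_
      rw [act_dd hF, act_dd hF]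
      fin_cases k <;> simp [ev, Equiv.swap_apply_def]
    have e2 : σ (ls * l2 * ls⁻¹) = σ (l1 * l2) := by
      rw [map_mul, map_mul, map_inv, map_mul, hls, hl1, hl2, ← map_mul]
      refine conj_dd hF hs01 fun k => ?_
      rw [act_dd hF, act_dd hF]
      fin_cases k <;> simp [ev, Equiv.swap_apply_def]
    have h := comm_conj hc hc1 ls
    have hc11 : σ l1⁻¹ * σ l1 = σ l1 * σ l1⁻¹ := by rw [← map_mul, ← map_mul]; simp
    rw [comm_congr hc e1 e2, comm_mul_right hc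
        (by rw [map_inv]; exact (Commute.inv_left (show Commute (σ l1) (σ l2) from hc1)).eq),
      show ⁅l1⁻¹, l1⁆ = 1 from commutatorElement_eq_one_iff_mul_comm.2 (by group), one_mul] at h
    have hm := comm_mul_left hc (a := l1⁻¹) (a' := l1) (b := l2) hc1
    rw [inv_mul_cancel, h, commutatorElement_one_left] at hm
    have h2 : ⁅l1, l2⁆ ^ 2 = 1 := by rw [pow_two]; exact hm.symm
    exact (pow_eq_one_iff_of_coprime (show Nat.Coprime 2 3 by norm_num)).1
      ⟨h2, hk3 _ (comm_mem_ker hc hc1)⟩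
  have hlift : ∀ d ∈ D, ∃ i j : ℤ, d = σ (l1 ^ i * l2 ^ j) := by
    rintro _ ⟨⟨x, y⟩, rfl⟩
    obtain ⟨i, rfl⟩ := Subgroup.mem_zpowers_iff.1 (ha x)
    obtain ⟨j, rfl⟩ := Subgroup.mem_zpowers_iff.1 (ha y)
    refine ⟨i, j, ?_⟩
    rw [map_mul, map_zpow, map_zpow, hl1, hl2, ← map_zpow, ← map_zpow, ← map_mul]
    simp
  set Dt := D.comap σ
  have hDc : ∀ x ∈ Dt, ∀ y ∈ Dt, Commute x y := fun x hx y hy => by
    obtain ⟨i, j, hij⟩ := hlift _ hx
    obtain ⟨i', j', hij'⟩ := hlift _ hy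
    have hl : Commute l1 l2 := commutatorElement_eq_one_iff_mul_comm.1 hone
    refine commutatorElement_eq_one_iff_mul_comm.1 ?_
    rw [comm_congr hc hij hij', commutatorElement_eq_one_iff_mul_comm]
    exact (((Commute.refl l1).zpow_zpow i i').mul_right (hl.zpow_zpow i j')).mul_left
      ((hl.symm.zpow_zpow j i').mul_right ((Commute.refl l2).zpow_zpow j j'))
  obtain ⟨ut, hut⟩ := hsur u
  have hconj : ∀ (i : ℤ), ∀ x ∈ Dt, ut ^ i * x * (ut ^ i)⁻¹ ∈ Dt := fun i x hx => by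
    show σ _ ∈ D
    rw [map_mul, map_mul, map_inv, map_zpow, hut]
    exact (Subgroup.mem_normalizer_iff.1 (hnorm ⟨i, rfl⟩) _).1 hx
  have hcu : ∀ x ∈ Dt, ⁅x, ut⁆ ∈ Dt := fun x hx => by
    rw [commutatorElement_def, mul_assoc, mul_assoc, ← mul_assoc ut]
    exact mul_mem hx (by simpa using hconj 1 _ (inv_mem hx))
  let Φ : Subgroup Γ :=
    { carrier := {y | ∃ x ∈ Dt, y = ⁅x, ut⁆}
      one_mem' := ⟨1, one_mem _, (commutatorElement_one_left _).symm⟩
      mul_mem' := by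
        rintro _ _ ⟨x, hx, rfl⟩ ⟨x', hx', rfl⟩
        refine ⟨x' * x, mul_mem hx' hx, ?_⟩
        rw [show ⁅x' * x, ut⁆ = x' * ⁅x, ut⁆ * x'⁻¹ * ⁅x', ut⁆ by
          rw [commutatorElement_def, commutatorElement_def, commutatorElement_def]; group,
          (hDc x' hx' _ (hcu x hx)).eq, mul_inv_cancel_right]
      inv_mem' := by
        rintro _ ⟨x, hx, rfl⟩
        refine ⟨x⁻¹, inv_mem hx, ?_⟩
        have e : ⁅x⁻¹, ut⁆ = x⁻¹ * ⁅x, ut⁆⁻¹ * x := by
          rw [commutatorElement_def, commutatorElement_def]; group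
        rw [e, (hDc x⁻¹ (inv_mem hx) _ (inv_mem (hcu x hx))).eq, inv_mul_cancel_right] }
  have hΦD : Φ ≤ Dt := by rintro _ ⟨x, hx, rfl⟩; exact hcu x hx
  have hΦu : ∀ y ∈ Φ, ut * y * ut⁻¹ ∈ Φ ∧ ut⁻¹ * y * ut ∈ Φ := by
    rintro _ ⟨x, hx, rfl⟩
    refine ⟨⟨ut * x * ut⁻¹, by simpa using hconj 1 x hx, ?_⟩,
      ⟨ut⁻¹ * x * ut, by simpa using hconj (-1) x hx, ?_⟩⟩ <;>
    · rw [commutatorElement_def, commutatorElement_def]; group
  have hpow : ∀ (i : ℤ), ∀ x ∈ Dt, ⁅ut ^ i, x⁆ ∈ Φ := by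
    intro i
    induction i using Int.induction_on with
    | zero => intro x _; rw [zpow_zero, commutatorElement_one_left]; exact one_mem _
    | succ i ih =>
      intro x hx
      have e : ⁅ut ^ ((i : ℤ) + 1), x⁆ = ut * ⁅ut ^ (i : ℤ), x⁆ * ut⁻¹ * ⁅x, ut⁆⁻¹ := by
        rw [commutatorElement_inv, commutatorElement_def, commutatorElement_def, commutatorElement_def,
          add_comm, _root_.zpow_add, zpow_one]; group
      rw [e]
      exact mul_mem (hΦu _ (ih x hx)).1 (inv_mem ⟨x, hx, rfl⟩)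
    | pred i ih =>
      intro x hx
      have e : ⁅ut ^ (-(i : ℤ) - 1), x⁆ =
          ut⁻¹ * ⁅ut ^ (-(i : ℤ)), x⁆ * ut * ⁅ut⁻¹ * x * ut, ut⁆ := by
        rw [commutatorElement_def, commutatorElement_def, commutatorElement_def,
          show -(i : ℤ) - 1 = -1 + -(i : ℤ) by ring, _root_.zpow_add, _root_.zpow_neg_one]; group
      rw [e]
      exact mul_mem (hΦu _ (ih x hx)).2 ⟨_, by simpa using hconj (-1) x hx, rfl⟩
  have hle : ⁅H.comap σ, H.comap σ⁆ ≤ Φ := by
    rw [Subgroup.commutator_le]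
    intro x hx y hy
    obtain ⟨i, d, hd, ed⟩ := hHmem _ hx
    obtain ⟨j, d', hd', ed'⟩ := hHmem _ hy
    obtain ⟨x₀, rfl⟩ := hsur d
    obtain ⟨y₀, rfl⟩ := hsur d'
    rw [comm_congr hc (a' := x₀ * ut ^ i) (b' := y₀ * ut ^ j) (by rw [ed, map_mul, map_zpow, hut])
      (by rw [ed', map_mul, map_zpow, hut])]
    have e : ⁅x₀ * ut ^ i, y₀ * ut ^ j⁆ =
        x₀ * (⁅ut ^ i, y₀⁆ * y₀ * (⁅ut ^ j, x₀⁻¹⁆ * x₀⁻¹)) * y₀⁻¹ := by
      rw [commutatorElement_def, commutatorElement_def, commutatorElement_def]; group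
    rw [e]
    set A := ⁅ut ^ i, y₀⁆
    set B := ⁅ut ^ j, x₀⁻¹⁆
    have hA : A ∈ Φ := hpow i _ hd'
    have hB : B ∈ Φ := hpow j _ (inv_mem (show x₀ ∈ Dt from hd))
    have hy0 : y₀ ∈ Dt := hd'
    have hx0 : x₀ ∈ Dt := hd
    have e' : x₀ * (A * y₀ * (B * x₀⁻¹)) * y₀⁻¹ = A * B := by
      calc x₀ * (A * y₀ * (B * x₀⁻¹)) * y₀⁻¹ = (x₀ * (A * y₀ * B)) * x₀⁻¹ * y₀⁻¹ := by group
        _ = A * y₀ * B * y₀⁻¹ := by
          rw [(hDc x₀ hx0 _ (mul_mem (mul_mem (hΦD hA) hy0) (hΦD hB))).eq, mul_inv_cancel_right]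
        _ = A * B := by rw [mul_assoc A, (hDc y₀ hy0 B (hΦD hB)).eq]; group
    rw [e']
    exact mul_mem hA hB
  obtain ⟨x, hx, rfl⟩ := hle hzm
  -- an element of the torus commuting with the cycle is central
  obtain ⟨⟨xa, xb⟩, hxd⟩ := hx
  have hxu : σ x * u = u * σ x := by
    rw [← hut, ← commutatorElement_eq_one_iff_mul_comm, ← map_commutatorElement]
    exact hz
  have hcomm : ∀ g, σ x * g = g * σ x := by
    have h := hτ xa xb
    rw [hxd, ← hxu, mul_inv_cancel_right, ← hxd] at h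
    have hh := dd_injective hF h
    rw [Prod.mk.injEq] at hh
    have e2 : xb = xa * xa := by conv_lhs => rw [hh.2, ← hh.1]
    have hb1 : (xa : Fˣ)⁻¹ * (xb : Fˣ) = (xa : Fˣ) := by
      rw [e2, Subgroup.coe_mul, inv_mul_cancel_left]
    have hb2 : (xb : Fˣ)⁻¹ = (xa : Fˣ) := (congrArg Subtype.val hh.1).symm
    have hall : ∀ k, act (σ x) (ev k) = ((xa : Fˣ) : F) • ev k := fun k => by
      rw [← hxd, act_dd hF]
      fin_cases k
      · rfl
      · exact congrArg (fun w : Fˣ => (w : F) • (ev 1 : Fin 3 → F)) hb1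
      · exact congrArg (fun w : Fˣ => (w : F) • (ev 2 : Fin 3 → F)) hb2
    intro g
    refine Phan.act_eq_of_basis fun k => ?_
    rw [act_mul, act_mul, hall, act_smul]
    have hlin : ∀ v : Fin 3 → F, act (σ x) v = ((xa : Fˣ) : F) • v := fun v => by
      conv_lhs => rw [show v = ∑ j, v j • ev j by ext i; simp [ev, Finset.sum_apply, Pi.single_apply]]
      rw [act, Matrix.mulVec_sum, Finset.sum_congr rfl fun j _ => by
        rw [Matrix.mulVec_smul, show suMat (σ x) *ᵥ ev j = _ from hall j, smul_comm]]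
      rw [← Finset.smul_sum]
      congr 1
      ext i; simp [ev, Finset.sum_apply, Pi.single_apply]
    rw [hlin]
  let ψ : Γ →* Subgroup.center Γ :=
    { toFun := fun g => ⟨⁅x, g⁆, hc (comm_mem_ker hc (hcomm (σ g)))⟩
      map_one' := Subtype.ext (commutatorElement_one_right _)
      map_mul' := fun a b => Subtype.ext (comm_mul_right hc (hcomm (σ b))) }
  have hψ : commutator Γ ≤ ψ.ker := by
    rw [commutator_def, Subgroup.commutator_le]
    intro a _ b _
    rw [MonoidHom.mem_ker, map_commutatorElement, commutatorElement_eq_one_iff_mul_comm]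
    exact Subtype.ext (Subgroup.mem_center_iff.1 (ψ b).2 _)
  obtain ⟨w, hw, hwu⟩ : ∃ w ∈ commutator Γ, σ w = σ ut := by
    have h : σ ut ∈ (commutator Γ).map σ := by
      rw [Schur.map_commutator_of_surjective σ hsur,
        commutator_SU_eq_top hF (n := 3) le_rfl (by omega)]
      exact Subgroup.mem_top _
    exact h
  rw [comm_congr hc rfl hwu.symm]
  exact congrArg Subtype.val (MonoidHom.mem_ker.1 (hψ hw))

end CfsgLib.UMult
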