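import Cfsg.Agent.UMult.ThreeP
import Cfsg.Agent.UMult.ThreeL

/-!
`SU₃(q)`, `q ≥ 3`, has only split central extensions.
-/

set_option autoImplicit false
set_option linter.unusedSectionVars false
set_option linter.style.haveILetI false

namespace CfsgLib.UMult

open CfsgLib.Multiplier

universe u

variable {F : Type u} [Field F] [Finite F] {q : ℕ} (hF : Nat.card F = q ^ 2)

include hF

theorem noStem_three (hq : 3 ≤ q) {ℓ : ℕ} (hℓ : ℓ.Prime) : NoStem (Cfsg.SU 3 F q) ℓ := by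
  obtain ⟨p, k, hcp, hp, hk, hqk⟩ := exists_char hF
  haveI := Fact.mk hp
  haveI := hcp
  rcases eq_or_ne ℓ p with rfl | hne
  · refine noStem_of_loc hℓ (MinIdxU3.Rad hF) (fun h => ?_) (loc_Rad hF hq ℓ)
    have hc := (MinIdxU3.Rad (F := F) (q := q) hF).card_mul_index
    rw [MinIdxU3.card_Rad hF, MinIdxU3.card_G3 hF, mul_assoc] at hc
    rw [Nat.eq_of_mul_eq_mul_left (pow_pos (by omega) 3) hc, hℓ.dvd_mul] at h
    have hdq : ℓ ∣ q := hqk ▸ dvd_pow_self ℓ hk.ne'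
    rcases h with h | h
    · refine hℓ.not_dvd_one ?_
      have h1 : 1 ≤ q ^ 2 := Nat.one_le_pow _ _ (by omega)
      have h2 := Nat.dvd_sub (dvd_pow hdq two_ne_zero) h
      rwa [show q ^ 2 - (q ^ 2 - 1) = 1 by omega] at h2
    · exact hℓ.not_dvd_one ((Nat.dvd_add_right (dvd_pow hdq (by norm_num : 3 ≠ 0))).1 h)
  by_cases hd : ℓ ∣ q ^ 2 + 1 - q
  swap
  · exact noStem_three_block hF p hℓ hne hd
  by_cases hd' : ℓ ∣ q ^ 2 - 1
  swap
  · exact noStem_three_singer hF hℓ hd hd'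
  have hqle : q ≤ q ^ 2 := Nat.le_self_pow two_ne_zero q
  have h2 : ℓ ∣ q - 2 ∧ ℓ ∣ (q - 1) * (q + 1) := by
    constructor
    · have h := Nat.dvd_sub hd' hd
      rwa [show q ^ 2 - 1 - (q ^ 2 + 1 - q) = q - 2 by omega] at h
    · rwa [mul_comm, ← Nat.sq_sub_sq, one_pow]
  obtain rfl : ℓ = 3 := by
    rcases hℓ.dvd_mul.1 h2.2 with h | h
    · have h' := Nat.dvd_sub h h2.1
      rw [show q - 1 - (q - 2) = 1 by omega] at h'
      exact absurd h' hℓ.not_dvd_one
    · have h' := Nat.dvd_sub h h2.1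
      rw [show q + 1 - (q - 2) = 3 by omega] at h'
      exact (Nat.prime_dvd_prime_iff_eq hℓ Nat.prime_three).1 h'
  refine noStem_three_three hF hq ?_
  obtain ⟨r, hr⟩ := h2.1
  exact ⟨r + 1, by omega⟩

theorem split_three (hq : 3 ≤ q) : Split (Cfsg.SU 3 F q) :=
  split_of_noStem (Unitary.commutator_SU_eq_top hF le_rfl (by omega)) fun _ hp => noStem_three hF hq hp

end CfsgLib.UMult
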