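import Cfsg.Agent.UMult.Basic
import Cfsg.Agent.MinIdxU3.Small

/-!
The radical of the point stabiliser of `SU₃(q)`: no derived element of a central extension of it
lies in the kernel, as soon as the extension comes from `SU₃(q)`.
-/

set_option autoImplicit false
set_option linter.style.haveILetI false
set_option linter.unusedSectionVars false

namespace CfsgLib.UMult

open Matrix CfsgLib.Unitary CfsgLib.Forms CfsgLib.MinIdxPSU CfsgLib.MinIdxU3
open scoped commutatorElement

variable {F : Type*} [Field F] [Finite F] {q : ℕ} (hF : Nat.card F = q ^ 2)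

include hF

/-- A subfield with an element of large order is everything. -/
theorem subfield_eq_top (K : Subfield F) {w : Fˣ} (hw : (w : F) ∈ K) (ho : q + 1 < orderOf w) :
    K = ⊤ := by
  classical
  haveI := Fintype.ofFinite K
  have hcard : q < Nat.card K := by
    have h := FiniteField.pow_card_sub_one_eq_one (⟨(w : F), hw⟩ : K)
      (fun e => w.ne_zero (congrArg Subtype.val e))
    have h1 : w ^ (Fintype.card K - 1) = 1 := Units.ext (by
      simpa using congrArg Subtype.val h)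
    have h3 : 1 < Fintype.card K := Fintype.one_lt_card
    have h2 := Nat.le_of_dvd (by omega) (orderOf_dvd_of_pow_eq_one h1)
    rw [Nat.card_eq_fintype_card]
    omega
  have hr := Module.natCard_eq_pow_finrank (K := K) (V := F)
  rw [hF] at hr
  have h1 : Module.finrank K F = 1 := by
    rcases Nat.lt_or_ge (Module.finrank K F) 2 with h | h
    · have := Module.finrank_pos (R := K) (M := F)
      omega
    · have h2 : Nat.card K ^ 2 ≤ q ^ 2 := hr.symm ▸ Nat.pow_le_pow_right Nat.card_pos h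
      exact absurd ((Nat.pow_le_pow_iff_left two_ne_zero).1 h2) (by omega)
  rw [h1, pow_one] at hr
  have huniv : (K : Set F) = Set.univ := Set.eq_of_subset_of_ncard_le (Set.subset_univ _) (by
    rw [Set.ncard_univ, hF, hr, ← Nat.card_coe_set_eq]; rfl) Set.finite_univ
  exact eq_top_iff.2 fun x _ => huniv.ge (Set.mem_univ x)

/-- A biadditive pairing invariant under a scalar of large order vanishes. -/
theorem pairing_zero {Z : Type*} [Group Z] (η : F → F → Z)
    (hl : ∀ a b c, η (a + b) c = η a c * η b c) (hr : ∀ a b c, η a (b + c) = η a b * η a c)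
    {w : Fˣ} (hinv : ∀ a b, η ((w : F) * a) ((w : F) * b) = η a b) (ho : q + 1 < orderOf w) :
    ∀ a b, η a b = 1 := by
  classical
  by_contra hne
  simp only [not_forall] at hne
  obtain ⟨a₀, b₀, h0⟩ := hne
  have hz1 : ∀ c, η 0 c = 1 := fun c => by simpa using hl 0 0 c
  have hz2 : ∀ c, η c 0 = 1 := fun c => by simpa using hr c 0 0
  have hn1 : ∀ a c, η (-a) c = (η a c)⁻¹ := fun a c => eq_inv_of_mul_eq_one_left (by
    rw [← hl, neg_add_cancel, hz1])
  have hn2 : ∀ a c, η a (-c) = (η a c)⁻¹ := fun a c => eq_inv_of_mul_eq_one_left (by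
    rw [← hr, neg_add_cancel, hz2])
  let Φ : F → F → Prop := fun a b => ∀ x y, η (a * x) y = η x (b * y)
  have padd : ∀ a b a' b', Φ a b → Φ a' b' → Φ (a + a') (b + b') := fun a b a' b' h h' x y => by
    rw [add_mul, add_mul, hl, hr, h, h']
  have pmul : ∀ a b a' b', Φ a b → Φ a' b' → Φ (a * a') (b * b') := fun a b a' b' h h' x y => by
    rw [mul_assoc, h, h', ← mul_assoc, mul_comm b' b]
  have pone : Φ 1 1 := fun x y => by rw [one_mul, one_mul]
  have pzero : Φ 0 0 := fun x y => by rw [zero_mul, zero_mul, hz1, hz2]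
  have pneg : ∀ a b, Φ a b → Φ (-a) (-b) := fun a b h x y => by
    rw [neg_mul, neg_mul, hn1, hn2, h]
  have pw : Φ (w : F) ((w⁻¹ : Fˣ) : F) := fun x y => by
    have e := hinv x (((w⁻¹ : Fˣ) : F) * y)
    rwa [← mul_assoc (w : F) _ y, Units.mul_inv, one_mul] at e
  have puniq : ∀ a b b', Φ a b → Φ a b' → b = b' := by
    intro a b b' h h'
    by_contra hb
    refine h0 ?_
    have e := padd _ _ _ _ h (pneg _ _ h') a₀ ((b + -b')⁻¹ * b₀)
    rw [← mul_assoc, mul_inv_cancel₀ (by rwa [← sub_eq_add_neg, sub_ne_zero]), one_mul] at e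
    rw [← e, add_neg_cancel, zero_mul, hz1]
  let R : Subring F :=
    { carrier := {a | ∃ b, Φ a b}
      zero_mem' := ⟨0, pzero⟩
      one_mem' := ⟨1, pone⟩
      add_mem' := fun ⟨b, h⟩ ⟨b', h'⟩ => ⟨_, padd _ _ _ _ h h'⟩
      mul_mem' := fun ⟨b, h⟩ ⟨b', h'⟩ => ⟨_, pmul _ _ _ _ h h'⟩
      neg_mem' := fun ⟨b, h⟩ => ⟨_, pneg _ _ h⟩ }
  haveI := Fintype.ofFinite F
  let K : Subfield F :=
    { R with
      inv_mem' := fun x hx => by
        rcases eq_or_ne x 0 with rfl | hx0
        · rw [_root_.inv_zero]; exact R.zero_mem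
        · have hc : 1 < Fintype.card F := Fintype.one_lt_card
          have e : x⁻¹ = x ^ (Fintype.card F - 2) := by
            refine inv_eq_of_mul_eq_one_right ?_
            rw [← pow_succ', show Fintype.card F - 2 + 1 = Fintype.card F - 1 by omega]
            exact FiniteField.pow_card_sub_one_eq_one x hx0
          rw [e]
          exact pow_mem (show x ∈ R from hx) _ }
  have hK : K = ⊤ := subfield_eq_top hF K (w := w) ⟨_, pw⟩ ho
  have hall : ∀ a, ∃ b, Φ a b := fun a => by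
    have : a ∈ K := hK ▸ Subfield.mem_top a
    exact this
  choose θ hθ using hall
  let θh : F →+* F :=
    { toFun := θ
      map_one' := puniq _ _ _ (hθ _) pone
      map_mul' := fun a b => puniq _ _ _ (hθ _) (pmul _ _ _ _ (hθ a) (hθ b))
      map_zero' := puniq _ _ _ (hθ _) pzero
      map_add' := fun a b => puniq _ _ _ (hθ _) (padd _ _ _ _ (hθ a) (hθ b)) }
  have hθw : θh (w : F) = (w : F)⁻¹ := by
    rw [← Units.val_inv_eq_inv_val]
    exact puniq _ _ _ (hθ _) pw
  -- the fixed field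
  let E := (θh).eqLocusField (RingHom.id F)
  have hs : (w : F) + (w : F)⁻¹ ∈ E := by
    show θh _ = (w : F) + (w : F)⁻¹
    rw [map_add, map_inv₀, hθw, inv_inv, add_comm]
  obtain ⟨p, hp⟩ := CharP.exists F
  haveI := Fact.mk (CharP.char_is_prime F p)
  haveI := Fintype.ofFinite E
  haveI : CharP E p := E.subtype.charP E.subtype.injective p
  obtain ⟨j, -, hj⟩ := FiniteField.card E p
  have hw0 : (w : F) ≠ 0 := w.ne_zero
  set s := (w : F) + (w : F)⁻¹ with hsdef
  have hsE : s ^ p ^ (j : ℕ) = s := by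
    rw [← hj]
    exact congrArg Subtype.val (FiniteField.pow_card (⟨s, hs⟩ : E))
  have hq0 : p ^ (j : ℕ) ≤ q := by
    rw [← hj, ← Nat.card_eq_fintype_card]
    rcases Nat.lt_or_ge q (Nat.card E) with h | h
    · exfalso
      have hne : E ≠ ⊤ := fun e => by
        have : (w : F) ∈ E := e ▸ Subfield.mem_top _
        have h2 : θh (w : F) = (w : F) := this
        rw [hθw] at h2
        have h3 : w ^ 2 = 1 := Units.ext (by
          rw [Units.val_pow_eq_pow_val, pow_two, Units.val_one]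
          nth_rewrite 1 [← h2]
          exact inv_mul_cancel₀ hw0)
        have := Nat.le_of_dvd two_pos (orderOf_dvd_of_pow_eq_one h3)
        have := two_le_q hF
        omega
      have hr := Module.natCard_eq_pow_finrank (K := E) (V := F)
      rw [hF] at hr
      rcases Nat.lt_or_ge (Module.finrank E F) 2 with h2 | h2
      · have := Module.finrank_pos (R := E) (M := F)
        rw [show Module.finrank E F = 1 by omega, pow_one] at hr
        refine hne (eq_top_iff.2 fun x _ => ?_)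
        have huniv : (E : Set F) = Set.univ := Set.eq_of_subset_of_ncard_le (Set.subset_univ _) (by
          rw [Set.ncard_univ, hF, hr, ← Nat.card_coe_set_eq]; rfl) Set.finite_univ
        exact huniv.ge (Set.mem_univ x)
      · have h3 : Nat.card E ^ 2 ≤ q ^ 2 := hr.symm ▸ Nat.pow_le_pow_right Nat.card_pos h2
        exact absurd ((Nat.pow_le_pow_iff_left two_ne_zero).1 h3) (by omega)
    · exact h
  set v := (w : F) ^ p ^ (j : ℕ) with hv
  have hroot : v ^ 2 - s * v + 1 = 0 := by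
    have h : (w : F) ^ 2 - s * (w : F) + 1 = 0 := by rw [hsdef]; field_simp; ring
    have h' := congrArg (iterateFrobenius F p (j : ℕ)) h
    rw [map_add, map_sub, map_mul, map_pow, map_one, map_zero, iterateFrobenius_def,
      iterateFrobenius_def, hsE] at h'
    exact h'
  have hfac : (v - (w : F)) * (v - (w : F)⁻¹) = 0 := by
    rw [hsdef] at hroot
    field_simp at hroot ⊢
    linear_combination hroot
  have hpos : 0 < p ^ (j : ℕ) := pow_pos (Fact.out : p.Prime).pos _
  rcases mul_eq_zero.1 hfac with h | h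
  · have h1 : w ^ (p ^ (j : ℕ) - 1) = 1 := Units.ext (by
      refine mul_right_cancel₀ hw0 ?_
      rw [Units.val_pow_eq_pow_val, ← pow_succ, Nat.sub_add_cancel hpos, Units.val_one, one_mul]
      exact sub_eq_zero.1 h)
    have h2 : 1 < p ^ (j : ℕ) := Nat.one_lt_pow j.pos.ne' (Fact.out : p.Prime).one_lt
    have := Nat.le_of_dvd (by omega) (orderOf_dvd_of_pow_eq_one h1)
    omega
  · have h1 : w ^ (p ^ (j : ℕ) + 1) = 1 := Units.ext (by
      rw [Units.val_pow_eq_pow_val, pow_succ, Units.val_one]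
      rw [show (w : F) ^ p ^ (j : ℕ) = (w : F)⁻¹ from sub_eq_zero.1 h, inv_mul_cancel₀ hw0])
    have := Nat.le_of_dvd (by omega) (orderOf_dvd_of_pow_eq_one h1)
    omega

local notation "hh" => Cfsg.hermForm (1 + 1 + 1) F q
local notation "G3" => G 1 F q

/-- Every eigenvalue occurs. -/
theorem exists_Bor (t : Fˣ) : ∃ g ∈ Bor hF, lam hF g = (t : F) := by
  have hsur : (lamHom (F := F) (q := q) hF).range = ⊤ := by
    refine Subgroup.eq_top_of_card_eq _ ?_
    have h := (lamHom (F := F) (q := q) hF).ker.card_mul_index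
    rw [Subgroup.index_ker, card_Bor hF] at h
    have hk : Nat.card (lamHom (F := F) (q := q) hF).ker = q ^ 3 := by
      rw [← card_Rad hF, Rad]
      exact (Nat.card_congr (Subgroup.equivMapOfInjective _ _ (Subgroup.subtype_injective _)).toEquiv)
    rw [hk] at h
    rw [Nat.card_units, hF]
    exact Nat.eq_of_mul_eq_mul_left (pow_pos (pos_q hF) 3) h
  obtain ⟨g, hg⟩ := hsur.ge (Subgroup.mem_top t)
  exact ⟨g, g.2, congrArg Units.val hg⟩

theorem Rad_gam_zero {g : G3} (hg : g ∈ Rad hF) (h0 : gam hF g = 0) :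
    ∃ z : Skew hF, g = zE (k := 1) hF z := by
  rw [mem_Rad_iff] at hg
  obtain ⟨s, hs, e⟩ := eq_rad_of_lam_one hF hg.1 hg.2
  have h' : HeisCond q (0 : Fin 1 → F) s := by
    have ez : (fun _ : Fin 1 => gam hF g) = 0 := funext fun _ => h0
    rwa [ez] at hs
  refine ⟨⟨s, (heis_zero_iff hF s).1 h'⟩, e.trans (rad_congr hF ?_ rfl hs)⟩
  funext i
  simp [h0]

/-- The standard lift of a translation. -/
noncomputable def vv (a : F) : G3 := vE hF (fun _ : Fin 1 => a)

theorem vv_mem (a : F) : vv hF a ∈ Rad hF :=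
  (mem_Rad_iff hF).2 ⟨(rad_mem hF (sec_spec hF _)).1, (rad_mem hF (sec_spec hF _)).2.1⟩

theorem gam_vv (a : F) : gam hF (vv hF a) = a := (rad_mem hF (sec_spec hF _)).2.2

theorem gam_inv {g : G3} (hg : g ∈ Rad hF) : gam hF g⁻¹ = -gam hF g := by
  have h0 : gam hF (1 : G3) = 0 := by
    rw [gam, suMat_one, Matrix.one_mulVec, herm_fw hF]
  have h := gam_mul hF hg (inv_mem hg)
  rw [mul_inv_cancel, h0] at h
  linear_combination -h

/-- The alternating form of the radical. -/
def zf (a b : F) : Skew hF := ⟨a * b ^ q - b * a ^ q, by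
  rw [mem_skew_iff, sub_eq_add_neg (a * b ^ q), add_pow_q hF, ← neg_one_mul, mul_pow (-1 : F),
    mul_pow, mul_pow, pow_q_q hF, pow_q_q hF, ← frobQ_apply hF (-1), map_neg, map_one]
  ring⟩

theorem vv_comm (a b : F) : ⁅vv hF a, vv hF b⁆ = zE (k := 1) hF (zf hF a b) := by
  obtain ⟨zc, hzc, ec⟩ := vE_comm (k := 1) hF (fun _ => a) (fun _ => b)
  have e : zc = zf hF a b := Subtype.ext (by rw [hzc, herm_one, herm_one]; rfl)
  rw [← e, commutatorElement_def, mul_inv_eq_iff_eq_mul, mul_inv_eq_iff_eq_mul, mul_assoc]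
  exact ec

/-- The alternating form is onto. -/
theorem exists_zf (z : Skew hF) : ∃ b, zf hF 1 b = z := by
  let f : F →+ Skew hF :=
    { toFun := fun b => zf hF 1 b
      map_zero' := Subtype.ext (by simp [zf, zero_pow (show q ≠ 0 by have := two_le_q hF; omega)])
      map_add' := fun a b => Subtype.ext (by
        simp only [zf, one_mul, one_pow, mul_one, AddSubgroup.coe_add, add_pow_q hF]
        ring) }
  have hker : f.ker ≤ Fix hF := fun b hb => by
    have h := congrArg Subtype.val (AddMonoidHom.mem_ker.1 hb)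
    simp only [f, zf, one_mul, one_pow, mul_one, AddMonoidHom.coe_mk, ZeroHom.coe_mk,
      ZeroMemClass.coe_zero] at h
    exact sub_eq_zero.1 h
  have hc : f.range = ⊤ := by
    refine AddSubgroup.eq_top_of_le_card _ ?_
    have h1 := f.ker.card_mul_index
    rw [AddSubgroup.index_ker, hF] at h1
    have h2 : Nat.card f.ker ≤ q :=
      (Nat.card_le_card_of_injective _ (Set.inclusion_injective hker)).trans_eq (card_fix_skew hF).1
    rw [(card_fix_skew hF).2]
    refine Nat.le_of_mul_le_mul_left ?_ (pos_q hF)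
    rw [← pow_two, ← h1]
    exact Nat.mul_le_mul_right _ h2
  exact hc.ge (AddSubgroup.mem_top z)


/-- Scalars fixed by the involution act on the central part. -/
def sk (u : F) (hu : u ^ q = u) : Skew hF →+ Skew hF where
  toFun z := ⟨u * z, by
    rw [mem_skew_iff, mul_pow, hu, ← mul_add, (mem_skew_iff hF).1 z.2, mul_zero]⟩
  map_zero' := Subtype.ext (mul_zero _)
  map_add' a b := Subtype.ext (mul_add u (a : F) b)

theorem zE_torus {g : G3} (hg : g ∈ Bor hF) {u : F} (hu : u ^ q = u) (hlu : lam hF g ^ (q + 1) = u)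
    (z : Skew hF) : g * zE (k := 1) hF z * g⁻¹ = zE (k := 1) hF (sk hF u hu z) := by
  refine su_ext fun y => ?_
  have h1 := su_preserves g (suMat g⁻¹ *ᵥ y) (ev hF)
  rw [Bor_ev hF hg, herm_smul_right hF, Matrix.mulVec_mulVec, ← suMat_mul, mul_inv_cancel, suMat_one,
    Matrix.one_mulVec] at h1
  rw [suMat_mul, suMat_mul, ← Matrix.mulVec_mulVec, ← Matrix.mulVec_mulVec, zE_apply hF, zE_apply hF,
    Matrix.mulVec_add, Matrix.mulVec_smul, Bor_ev hF hg, Matrix.mulVec_mulVec, ← suMat_mul,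
    mul_inv_cancel, suMat_one, Matrix.one_mulVec, smul_smul, ← h1]
  congr 2
  show _ = u * (z : F) * _
  rw [← hlu, pow_succ]
  ring

/-- The local criterion on the radical. -/
theorem loc_Rad (hq : 3 ≤ q) (ℓ : ℕ) : Loc (Rad (F := F) (q := q) hF) ℓ := by
  classical
  intro Γ _ _ σ hsur hc _ z₀ hz₀ hzm
  haveI := Fintype.ofFinite F
  set Rt := (Rad (F := F) (q := q) hF).comap σ with hRt
  have hRmem : ∀ {x}, x ∈ Rt ↔ σ x ∈ Rad hF := Iff.rfl
  obtain ⟨l, hl⟩ : ∃ l : F → Γ, ∀ a, σ (l a) = vv hF a :=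
    ⟨fun a => Function.surjInv hsur (vv hF a), fun a => Function.surjInv_eq hsur _⟩
  have hlR : ∀ a, l a ∈ Rt := fun a => by rw [hRmem, hl]; exact vv_mem hF a
  obtain ⟨le, hle⟩ : ∃ le : Skew hF → Γ, ∀ z, σ (le z) = zE (k := 1) hF z :=
    ⟨fun z => Function.surjInv hsur _, fun z => Function.surjInv_eq hsur _⟩
  have hleR : ∀ z, le z ∈ Rt := fun z => by rw [hRmem, hle]; exact zE_mem_Rad hF z
  have hsc : ∀ (z : Skew hF) (g : G3), g ∈ Rad hF → zE (k := 1) hF z * g = g * zE (k := 1) hF z := by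
    intro z g hg
    rw [mem_Rad_iff] at hg
    obtain ⟨s, hs, e⟩ := eq_rad_of_lam_one hF hg.1 hg.2
    obtain ⟨z', e'⟩ := rad_eq hF hs
    rw [e, e', ← mul_assoc, ← zE_add, add_comm z z', zE_add, mul_assoc, mul_assoc]
    exact congrArg _ (zE_comm_vE hF z _)
  -- a torus element
  obtain ⟨t, ht⟩ := IsCyclic.exists_ofOrder_eq_natCard (α := Fˣ)
  rw [Nat.card_units, hF] at ht
  have hq2 : 3 * 3 ≤ q ^ 2 := by nlinarith
  have hqq : q ^ 2 - 1 = (q - 1) * (q + 1) := by
    rw [mul_comm, ← Nat.sq_sub_sq, one_pow]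
  obtain ⟨g₁, hg₁B, hg₁⟩ := exists_Bor hF (t ^ (q - 1))
  obtain ⟨h₁, hh₁⟩ := hsur g₁
  have hn1 : ((t ^ (q - 1) : Fˣ) : F) ^ (q + 1) = 1 := by
    rw [← Units.val_pow_eq_pow_val, ← pow_mul, ← hqq, ← ht, pow_orderOf_eq_one, Units.val_one]
  set v : F := ((t ^ (q - 1) : Fˣ) : F) with hvdef
  have hv0 : v ≠ 0 := Units.ne_zero _
  set w₁ : F := v ^ q * (v ^ q / v) with hw₁
  have hw₁ne : w₁ - 1 ≠ 0 := by
    intro h
    have h' : v ^ q * v = 1 := by rw [← pow_succ]; exact hn1
    have h3 : v ^ 3 = 1 := by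
      have : v ^ q * v ^ q * v ^ 3 = (v ^ q * v) ^ 2 * v := by ring
      rw [hw₁, mul_div_assoc'] at h
      rw [sub_eq_zero, div_eq_one_iff_eq hv0] at h
      rw [h, h', one_pow, one_mul] at this
      exact mul_left_cancel₀ hv0 (this.trans (mul_one v).symm)
    have h4 : t ^ ((q - 1) * 3) = 1 := Units.ext (by
      rw [pow_mul, Units.val_pow_eq_pow_val, Units.val_one]; exact h3)
    have h5 := orderOf_dvd_of_pow_eq_one h4
    rw [ht, hqq] at h5
    have := Nat.le_of_dvd (by omega) (Nat.dvd_of_mul_dvd_mul_left (by omega) h5)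
    omega
  -- central part commutes with the preimage of the radical
  have hcen : ∀ (z : Skew hF) (c : Γ), σ c = zE (k := 1) hF z → ∀ r ∈ Rt, Commute c r := by
    intro z c hcz
    have hcom : ∀ r ∈ Rt, σ c * σ r = σ r * σ c := fun r hr => by rw [hcz]; exact hsc z _ hr
    let ψ : Rt →* Subgroup.center Γ :=
      { toFun := fun r => ⟨⁅c, (r : Γ)⁆, hc (comm_mem_ker hc (hcom r r.2))⟩
        map_one' := Subtype.ext (by simp [commutatorElement_def])
        map_mul' := fun a b => Subtype.ext (comm_mul_right hc (hcom b b.2)) }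
    have hψ : ∀ (r : Γ) (hr : r ∈ Rt), ψ ⟨r, hr⟩ = 1 → ⁅c, r⁆ = 1 := fun r hr h =>
      congrArg Subtype.val h
    have hab : ∀ a b : Rt, ψ ⁅a, b⁆ = 1 := fun a b => by
      rw [map_commutatorElement, commutatorElement_eq_one_iff_mul_comm]
      exact Subtype.ext (Subgroup.mem_center_iff.1 (ψ b).2 _)
    intro r hr
    have hcg : ∀ s ∈ Rt, h₁ * s * h₁⁻¹ ∈ Rt := fun s hs => by
      rw [hRmem, map_mul, map_mul, map_inv, hh₁]
      exact (gam_conj hF hg₁B hs).1
    set s := l (gam hF (σ r) / (w₁ - 1)) with hs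
    have hsR : s ∈ Rt := hlR _
    set d := s⁻¹ * (h₁ * s * h₁⁻¹) with hd
    have hdR : d ∈ Rt := mul_mem (inv_mem hsR) (hcg s hsR)
    have hd1 : ψ ⟨d, hdR⟩ = 1 := by
      have e : (⟨d, hdR⟩ : Rt) = (⟨s, hsR⟩ : Rt)⁻¹ * ⟨_, hcg s hsR⟩ := rfl
      rw [e, map_mul, map_inv, inv_mul_eq_one]
      refine Subtype.ext ?_
      show ⁅c, s⁆ = ⁅c, h₁ * s * h₁⁻¹⁆
      rw [← comm_conj hc (hcom s hsR) h₁]
      refine comm_congr hc ?_ rfl
      rw [map_mul, map_mul, map_inv, hh₁, hcz, zE_torus hF hg₁B (u := 1) (one_pow q)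
        (by rw [hg₁, ← hn1])]
      exact congrArg _ (Subtype.ext (one_mul _))
    have hgd : gam hF (σ d) = gam hF (σ r) := by
      have hσ : σ d = (σ s)⁻¹ * (g₁ * σ s * g₁⁻¹) := by
        rw [hd, map_mul, map_inv, map_mul, map_mul, map_inv, hh₁]
      rw [hσ, gam_mul hF (inv_mem hsR) (gam_conj hF hg₁B hsR).1, gam_inv hF hsR,
        (gam_conj hF hg₁B hsR).2, hg₁, ← hw₁, hs, hl, gam_vv]
      field_simp
      ring
    have he : d⁻¹ * r ∈ Rt := mul_mem (inv_mem hdR) hr
    obtain ⟨z', hz'⟩ := Rad_gam_zero hF he (by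
      rw [map_mul, map_inv, gam_mul hF (inv_mem hdR) hr, gam_inv hF hdR, hgd, neg_add_cancel])
    obtain ⟨b, hb⟩ := exists_zf hF z'
    have h2 : ⁅c, d⁻¹ * r⁆ = 1 := by
      rw [comm_congr hc rfl (show σ (d⁻¹ * r) = σ ⁅l 1, l b⁆ by
        rw [map_commutatorElement, hl, hl, vv_comm, hb, hz'])]
      have : (⁅(⟨l 1, hlR 1⟩ : Rt), ⟨l b, hlR b⟩⁆ : Rt).1 = ⁅l 1, l b⁆ := rfl
      rw [← this]
      exact hψ _ _ (hab _ _)
    have h1 : ⁅c, d⁆ = 1 := hψ _ _ hd1
    have := comm_mul_right hc (a := c) (b := d) (b' := d⁻¹ * r) (hcom _ he)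
    rw [h1, h2, mul_one, mul_inv_cancel_left] at this
    exact commutatorElement_eq_one_iff_mul_comm.1 this
  -- the generator of the torus
  obtain ⟨g₀, hg₀B, hg₀⟩ := exists_Bor hF t
  obtain ⟨h₀, hh₀⟩ := hsur g₀
  set u : F := (t : F) ^ (q + 1) with hu
  have huq : u ^ q = u := by
    rw [hu, ← pow_mul, add_mul, one_mul, pow_add, ← pow_two, ← hF, Nat.card_eq_fintype_card,
      FiniteField.pow_card, pow_succ']
  have hu1 : u - 1 ≠ 0 := by
    intro h
    have h4 : t ^ (q + 1) = 1 := Units.ext (by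
      rw [Units.val_pow_eq_pow_val, Units.val_one]; exact sub_eq_zero.1 h)
    have h5 := orderOf_dvd_of_pow_eq_one h4
    rw [ht, hqq] at h5
    have := Nat.le_of_dvd (by omega) h5
    nlinarith [Nat.mul_le_mul_right (q + 1) (show 2 ≤ q - 1 by omega)]
  have huinv : ((u - 1)⁻¹) ^ q = (u - 1)⁻¹ := by
    rw [inv_pow, ← frobQ_apply hF (u - 1), map_sub, map_one, frobQ_apply, huq]
  have hfun : ∀ e : Γ, ∀ z, σ e = zE (k := 1) hF z → σ (h₀ * e * h₀⁻¹) = zE (k := 1) hF (sk hF u huq z) :=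
    fun e z he => by
      rw [map_mul, map_mul, map_inv, hh₀, he, zE_torus hF hg₀B huq (by rw [hg₀])]
  set T : Skew hF → Γ := fun z => ⁅h₀, le (sk hF _ huinv z)⁆ with hT
  have hσT : ∀ z, σ (T z) = zE (k := 1) hF z := fun z => by
    rw [hT]
    show σ ⁅h₀, le _⁆ = _
    rw [commutatorElement_def, map_mul, hfun _ _ (hle _), map_inv, hle, mul_inv_eq_iff_eq_mul, ← zE_add]
    exact congrArg _ (Subtype.ext (by
      show u * ((u - 1)⁻¹ * (z : F)) = (z : F) + (u - 1)⁻¹ * (z : F)
      field_simp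
      ring))
  have hTR : ∀ z, T z ∈ Rt := fun z => by rw [hRmem, hσT]; exact zE_mem_Rad hF z
  let S : Multiplicative (Skew hF) →* Γ :=
    MonoidHom.mk' (fun z => T (Multiplicative.toAdd z)) fun a b => by
      show ⁅h₀, le _⁆ = ⁅h₀, le _⁆ * ⁅h₀, le _⁆
      rw [toAdd_mul, map_add]
      set x := sk hF _ huinv (Multiplicative.toAdd a)
      set y := sk hF _ huinv (Multiplicative.toAdd b)
      rw [comm_congr hc rfl (show σ (le (x + y)) = σ (le x * le y) by
        rw [map_mul, hle, hle, hle, zE_add])]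
      have hy : ⁅h₀, le y⁆ ∈ Rt := by
        rw [hRmem, commutatorElement_def, map_mul, hfun _ _ (hle _), map_inv, hle]
        exact mul_mem (zE_mem_Rad hF _) (inv_mem (zE_mem_Rad hF _))
      calc ⁅h₀, le x * le y⁆ = ⁅h₀, le x⁆ * (le x * ⁅h₀, le y⁆ * (le x)⁻¹) := by
            rw [commutatorElement_def, commutatorElement_def, commutatorElement_def]; group
        _ = _ := by rw [(hcen x _ (hle x) _ hy).eq, mul_inv_cancel_right]
  have hTg : ∀ z, h₀ * T z * h₀⁻¹ = T (sk hF u huq z) := fun z => by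
    show h₀ * ⁅h₀, le _⁆ * h₀⁻¹ = ⁅h₀, le _⁆
    rw [conjugate_commutatorElement, mul_inv_cancel_right]
    refine comm_congr hc rfl ?_
    rw [hfun _ _ (hle _), hle]
    exact congrArg _ (Subtype.ext (by
      show u * ((u - 1)⁻¹ * (z : F)) = (u - 1)⁻¹ * (u * (z : F))
      ring))
  -- commutators
  have hmain : ∀ x ∈ Rt, ∀ y ∈ Rt, ⁅x, y⁆ = ⁅l (gam hF (σ x)), l (gam hF (σ y))⁆ := by
    have key : ∀ x ∈ Rt, ∀ y, y ∈ Rt → ⁅x, y⁆ = ⁅l (gam hF (σ x)), y⁆ := by
      intro x hx y hy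
      set a := l (gam hF (σ x)) with ha
      have hac : a⁻¹ * x ∈ Rt := mul_mem (inv_mem (hlR _)) hx
      obtain ⟨z, hz⟩ := Rad_gam_zero hF hac (by
        rw [map_mul, map_inv, gam_mul hF (inv_mem (hlR _)) hx, gam_inv hF (hlR _), hl, gam_vv,
          neg_add_cancel])
      calc ⁅x, y⁆ = a * ((a⁻¹ * x) * y) * x⁻¹ * y⁻¹ := by rw [commutatorElement_def]; group
        _ = a * (y * (a⁻¹ * x)) * x⁻¹ * y⁻¹ := by rw [(hcen z _ hz y hy).eq]
        _ = _ := by rw [commutatorElement_def]; group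
    intro x hx y hy
    rw [key x hx y hy, ← _root_.inv_inj, commutatorElement_inv, commutatorElement_inv, key y hy _ (hlR _)]
  set β : F → F → Γ := fun a b => ⁅l a, l b⁆ with hβ
  have hσβ : ∀ a b, σ (β a b) = zE (k := 1) hF (zf hF a b) := fun a b => by
    show σ ⁅l a, l b⁆ = _
    rw [map_commutatorElement, hl, hl, vv_comm]
  have hβc : ∀ a b, ∀ r ∈ Rt, Commute (β a b) r := fun a b => hcen _ _ (hσβ a b)
  have hβl : ∀ a b c, β (a + b) c = β a c * β b c := fun a b c => by
    have h := hmain (l a * l b) (mul_mem (hlR a) (hlR b)) (l c) (hlR c)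
    rw [map_mul, hl, hl, hl, gam_mul hF (vv_mem hF a) (vv_mem hF b), gam_vv, gam_vv, gam_vv] at h
    show ⁅l (a + b), l c⁆ = _
    rw [← h]
    calc ⁅l a * l b, l c⁆ = (l a * ⁅l b, l c⁆) * (l a)⁻¹ * ⁅l a, l c⁆ := by
          rw [commutatorElement_def, commutatorElement_def, commutatorElement_def]; group
      _ = β b c * β a c := by rw [← (hβc b c _ (hlR a)).eq, mul_inv_cancel_right]
      _ = _ := (hβc b c _ (mul_mem (mul_mem (mul_mem (hlR a) (hlR c)) (inv_mem (hlR a)))
          (inv_mem (hlR c)))).eq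
  have hβr : ∀ a b c, β a (b + c) = β a b * β a c := fun a b c => by
    have hi : ∀ x y, β x y = (β y x)⁻¹ := fun x y => (commutatorElement_inv (l y) (l x)).symm
    rw [hi a (b + c), hβl, _root_.mul_inv_rev, ← hi, ← hi]
    exact (hβc a c _ (mul_mem (mul_mem (mul_mem (hlR a) (hlR b)) (inv_mem (hlR a)))
      (inv_mem (hlR b)))).eq
  set w : Fˣ := t ^ (2 * q - 1) with hw
  have hwval : (t : F) ^ q * ((t : F) ^ q / t) = (w : F) := by
    rw [hw, mul_div_assoc', div_eq_iff t.ne_zero, Units.val_pow_eq_pow_val, ← pow_succ, ← pow_add]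
    congr 1
    omega
  have hzw : ∀ a b, zf hF ((w : F) * a) ((w : F) * b) = sk hF u huq (zf hF a b) := fun a b => by
    refine Subtype.ext ?_
    have e : (w : F) ^ (q + 1) = u := by
      rw [hw, Units.val_pow_eq_pow_val, ← pow_mul, hu,
        show (2 * q - 1) * (q + 1) = 2 * (q ^ 2 - 1) + (q + 1) by
          zify [show 1 ≤ 2 * q by omega, show 1 ≤ q ^ 2 by nlinarith]; ring,
        pow_add, mul_comm 2, pow_mul, ← Units.val_pow_eq_pow_val, ← ht, pow_orderOf_eq_one]
      simp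
    show (w : F) * a * ((w : F) * b) ^ q - (w : F) * b * ((w : F) * a) ^ q =
      u * (a * b ^ q - b * a ^ q)
    rw [mul_pow, mul_pow, ← e, pow_succ]
    ring
  have hηker : ∀ a b, (S (Multiplicative.ofAdd (zf hF a b)))⁻¹ * β a b ∈ σ.ker := fun a b => by
    show σ _ = 1
    rw [map_mul, map_inv, hσβ]
    show (σ (T _))⁻¹ * _ = 1
    rw [hσT, toAdd_ofAdd, inv_mul_cancel]
  have hzl : ∀ a b c, zf hF (a + b) c = zf hF a c + zf hF b c := fun a b c => Subtype.ext (by
    show (a + b) * c ^ q - c * (a + b) ^ q = (a * c ^ q - c * a ^ q) + (b * c ^ q - c * b ^ q)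
    rw [add_pow_q hF]; ring)
  have hzr : ∀ a b c, zf hF a (b + c) = zf hF a b + zf hF a c := fun a b c => Subtype.ext (by
    show a * (b + c) ^ q - (b + c) * a ^ q = (a * b ^ q - b * a ^ q) + (a * c ^ q - c * a ^ q)
    rw [add_pow_q hF]; ring)
  set η : F → F → Γ := fun a b => (S (Multiplicative.ofAdd (zf hF a b)))⁻¹ * β a b with hη
  have hηc : ∀ a b x, x * η a b = η a b * x := fun a b x => ker_comm hc (hηker a b) x
  have hη1 := pairing_zero hF η
    (fun a b c => by
      show (S _)⁻¹ * β (a + b) c = _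
      rw [hzl, ofAdd_add, map_mul, _root_.mul_inv_rev, hβl, mul_assoc, ← mul_assoc (S _)⁻¹ (β a c),
        show (S (Multiplicative.ofAdd (zf hF a c)))⁻¹ * β a c = η a c from rfl,
        ← mul_assoc, hηc a c _, mul_assoc])
    (fun a b c => by
      show (S _)⁻¹ * β a (b + c) = _
      rw [hzr, ofAdd_add, map_mul, _root_.mul_inv_rev, hβr, mul_assoc, ← mul_assoc (S _)⁻¹ (β a b),
        show (S (Multiplicative.ofAdd (zf hF a b)))⁻¹ * β a b = η a b from rfl,
        ← mul_assoc, hηc a b _, mul_assoc])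
    (w := w)
    (fun a b => by
      have hconj : h₀ * β a b * h₀⁻¹ = β ((w : F) * a) ((w : F) * b) := by
        show h₀ * ⁅l a, l b⁆ * h₀⁻¹ = _
        have hm : ∀ c, h₀ * l c * h₀⁻¹ ∈ Rt := fun c => by
          rw [hRmem, map_mul, map_mul, map_inv, hh₀]
          exact (gam_conj hF hg₀B (hlR c)).1
        have hg : ∀ c, gam hF (σ (h₀ * l c * h₀⁻¹)) = (w : F) * c := fun c => by
          rw [map_mul, map_mul, map_inv, hh₀, (gam_conj hF hg₀B (hlR c)).2, hl, gam_vv, hg₀, hwval]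
        rw [conjugate_commutatorElement, hmain _ (hm a) _ (hm b), hg, hg]
      show (T _)⁻¹ * β ((w : F) * a) ((w : F) * b) = η a b
      rw [toAdd_ofAdd, hzw, ← hTg, ← hconj, _root_.mul_inv_rev, _root_.mul_inv_rev, inv_inv]
      calc h₀ * ((T (zf hF a b))⁻¹ * h₀⁻¹) * (h₀ * β a b * h₀⁻¹)
          = h₀ * η a b * h₀⁻¹ := by
            show h₀ * ((T (zf hF a b))⁻¹ * h₀⁻¹) * (h₀ * β a b * h₀⁻¹) =
              h₀ * ((T (zf hF a b))⁻¹ * β a b) * h₀⁻¹
            group
        _ = η a b := by rw [hηc, mul_inv_cancel_right])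
    (by
      have h1 : q ^ 2 - 1 ∣ orderOf w * (2 * q - 1) := by
        rw [← ht]
        refine orderOf_dvd_of_pow_eq_one ?_
        rw [mul_comm, pow_mul, ← hw, pow_orderOf_eq_one]
      have hpos : 0 < orderOf w := orderOf_pos w
      have h3 : q ^ 2 - 1 ∣ 3 * orderOf w := by
        have e : orderOf w * (2 * q - 1) * (2 * q + 1) =
            (q ^ 2 - 1) * (4 * orderOf w) + 3 * orderOf w := by
          zify [show 1 ≤ 2 * q by omega, show 1 ≤ q ^ 2 by nlinarith]; ring
        exact (Nat.dvd_add_right (dvd_mul_right _ _)).1 (e ▸ h1.mul_right _)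
      rcases Nat.lt_or_ge q 5 with h | h
      · clear_value w
        generalize orderOf w = o at h1 h3 hpos ⊢
        rcases (show q = 3 ∨ q = 4 by omega) with e | e <;> rw [e] at h1 h3 ⊢ <;>
          norm_num at h1 h3 <;> omega
      · have := Nat.le_of_dvd (by omega) h3
        rw [hqq] at this
        nlinarith [Nat.mul_le_mul_right (q + 1) (show 4 ≤ q - 1 by omega)])
  have hderiv : ⁅Rt, Rt⁆ ≤ S.range := by
    rw [Subgroup.commutator_le]
    intro x hx y hy
    rw [hmain x hx y hy]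
    exact ⟨Multiplicative.ofAdd (zf hF _ _), inv_mul_eq_one.1 (hη1 _ _)⟩
  obtain ⟨z, hz⟩ := hderiv hzm
  have h1 : σ (T (Multiplicative.toAdd z)) = 1 := (congrArg σ hz).trans hz₀
  have h2 : zE (k := 1) hF (Multiplicative.toAdd z) = zE (k := 1) hF 0 :=
    (hσT _).symm.trans (h1.trans (zE_zero hF).symm)
  rw [← hz, show z = 1 from zE_injective hF h2, map_one]

end CfsgLib.UMult
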