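import Cfsg.Agent.UMult.Three
import Cfsg.Agent.SLMult.PSL

/-!
Splitting of central extensions passes from two consecutive blocks to the whole unitary group.
-/

set_option autoImplicit false
set_option linter.style.haveILetI false
set_option linter.unusedSectionVars false

namespace CfsgLib.UMult

open CfsgLib.Multiplier CfsgLib.Phan

universe u

variable {F : Type u} [Field F] [Finite F] {q : ℕ} (hF : Nat.card F = q ^ 2)

include hF

/-- The perfect groups. -/
theorem perfect_su {m : ℕ} (hm : 2 ≤ m) (h2 : m = 2 → 4 ≤ q) (h3 : ¬ (m = 3 ∧ q = 2)) :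
    commutator (Cfsg.SU m F q) = ⊤ := by
  rcases Nat.lt_or_ge m 3 with h | h
  · obtain rfl : m = 2 := by omega
    let K := (Forms.frobQ hF).eqLocusField (RingHom.id F)
    haveI := Fintype.ofFinite K
    have hK : Nat.card K = q := (MinIdxPSU.card_fix_skew hF).1
    obtain ⟨e⟩ := Unitary.su_two_iso hF (K := K) hK
    obtain ⟨c, hc, hc2⟩ := SLMult.exists_sq (K := K) (by rw [hK]; exact h2 rfl)
    have hperf := Linear.commutator_SL_eq_top (ι := Fin 2) (F := K) (Or.inr ⟨c, hc, hc2⟩)
    rw [← Schur.map_commutator_of_surjective e.symm.toMonoidHom e.symm.surjective, hperf]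
    exact Subgroup.map_top_of_surjective _ e.symm.surjective
  · exact Unitary.commutator_SU_eq_top hF h h3

/-- **The induction step.** -/
theorem split_succ {m : ℕ} (hm : 2 ≤ m) (hq : m = 2 → 4 ≤ q) (hq2 : q = 2 → 5 ≤ m)
    (h : Split (Cfsg.SU (m + 1) F q)) : Split (Cfsg.SU (m + 2) F q) := by
  intro Γ _ _ σ hsur hc
  have hq0 := Forms.two_le_q hF
  -- the lift of a block
  have hlift : ∀ f : Fin (m + 1) ↪ Fin (m + 2), ∃ ψ : Cfsg.SU (m + 1) F q →* Γ,
      ∀ X, σ (ψ X) = emb f X := fun f => by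
    obtain ⟨s, hs⟩ := h (Schur.pullback σ (emb (F := F) (q := q) f)) (Schur.psnd σ (emb f))
      (Schur.psnd_surjective σ _ hsur) (SLMult.psnd_ker_le_center σ _ hc)
    refine ⟨(Schur.pfst σ (emb f)).comp s, fun X => ?_⟩
    show σ (s X).1.1 = _
    rw [Schur.mem_pullback.1 (s X).2, show (s X).1.2 = X from hs X]
  obtain ⟨A, hA⟩ := hlift (win 1 (m + 1) (m + 2) (by omega))
  obtain ⟨B, hB⟩ := hlift (win 0 (m + 1) (m + 2) (by omega))
  have hPm := perfect_su hF hm hq (fun e => by have := hq2 e.2; omega)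
  have hagree : ∀ X : Cfsg.SU m F q,
      B (emb (win 1 m (m + 1) (by omega)) X) = A (emb (win 0 m (m + 1) (by omega)) X) := by
    refine DFunLike.congr_fun (lift_unique hc hPm (f := B.comp (emb _)) (f' := A.comp (emb _)) fun X => ?_)
    rw [MonoidHom.comp_apply, MonoidHom.comp_apply, hA, hB, emb_win' (l := 1) _ _ rfl,
      emb_win' (l := 1) _ _ rfl]
  have hC2 : ∀ (X : Cfsg.SU 2 F q) (Y : Cfsg.SU m F q),
      Commute (B (emb (win 0 2 (m + 1) (by omega)) X)) (A (emb (win 1 m (m + 1) (by omega)) Y)) :=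
    fun X Y => commute_of_perfect hc hPm (A.comp (emb (win 1 m (m + 1) (by omega)))) (fun Y => by
      rw [MonoidHom.comp_apply, hA, hB, emb_win, emb_win]
      exact commute_emb _ _ (fun a b e => by
        have := congrArg Fin.val e
        simp at this
        omega) _ _) Y
  have hC3 : ∀ (_ : 3 ≤ m) (X : Cfsg.SU 3 F q) (Y : Cfsg.SU (m - 1) F q),
      Commute (B (emb (win 0 3 (m + 1) (by omega)) X)) (A (emb (win 2 (m - 1) (m + 1) (by omega)) Y)) := by
    intro h3 X Y
    have hσ : ∀ (X : Cfsg.SU 3 F q) (Y : Cfsg.SU (m - 1) F q),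
        σ (B (emb (win 0 3 (m + 1) (by omega)) X)) * σ (A (emb (win 2 (m - 1) (m + 1) (by omega)) Y)) =
        σ (A (emb (win 2 (m - 1) (m + 1) (by omega)) Y)) * σ (B (emb (win 0 3 (m + 1) (by omega)) X)) := by
      intro X Y
      rw [hA, hB, emb_win, emb_win]
      exact commute_emb _ _ (fun a b e => by
        have := congrArg Fin.val e
        simp at this
        omega) _ _
    by_cases h32 : q = 2
    · exact commute_of_perfect hc (perfect_su hF (m := m - 1) (by omega)
        (fun e => by have := hq2 h32; omega) (fun e => by have := hq2 h32; omega))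
        (A.comp (emb (win 2 (m - 1) (m + 1) (by omega)))) (fun Y => hσ X Y) Y
    · exact (commute_of_perfect hc (perfect_su hF (m := 3) (by omega) (fun e => by omega)
        (fun e => h32 e.2)) (B.comp (emb (win 0 3 (m + 1) (by omega))))
        (fun X => (hσ X Y).symm) X).symm
  obtain ⟨Φ, hΦA, hΦB⟩ := exists_hom_step hF hm hq A B hagree hC2 hC3
  refine ⟨Φ, DFunLike.congr_fun (hom_ext_blocks hF (n := m + 1) (f := σ.comp Φ) (g := MonoidHom.id _)
    (by omega) (fun e => by omega) (fun X => ?_) (fun X => ?_))⟩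
  · rw [MonoidHom.comp_apply, hΦB, hB]; rfl
  · rw [MonoidHom.comp_apply, hΦA, hA]; rfl

/-- The induction. -/
theorem split_of_base {m₀ : ℕ} (h3 : 3 ≤ m₀) (hq : m₀ = 3 → 4 ≤ q) (hq2 : q = 2 → 6 ≤ m₀)
    (hbase : Split (Cfsg.SU m₀ F q)) {n : ℕ} (hn : m₀ ≤ n) : Split (Cfsg.SU n F q) := by
  induction n, hn using Nat.le_induction with
  | base => exact hbase
  | succ k hk ih =>
    obtain ⟨m, rfl⟩ : ∃ m, k = m + 1 := ⟨k - 1, by omega⟩
    exact split_succ hF (by omega) (fun e => hq (by omega)) (fun e => by have := hq2 e; omega) ih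

theorem split_large (hq : 4 ≤ q) {n : ℕ} (hn : 3 ≤ n) : Split (Cfsg.SU n F q) :=
  split_of_base hF le_rfl (fun _ => hq) (fun e => by omega) (split_three hF (by omega)) hn

end CfsgLib.UMult
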