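import Cfsg.Agent.UMult.Small

/-!
The Schur multipliers of the projective special unitary groups outside the exceptional pairs.
-/

set_option autoImplicit false
set_option linter.style.haveILetI false
set_option linter.unusedSectionVars false

namespace CfsgLib.UMult

open Matrix CfsgLib.Unitary CfsgLib.Forms

universe u

variable {F : Type u} [Field F] [Finite F] {n q : ℕ} (hF : Nat.card F = q ^ 2)

include hF

/-- Away from the exceptional pairs all central extensions split. -/
theorem split_su (hn : 3 ≤ n) (h3 : ¬ (n = 3 ∧ q = 2))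
    (hexc : (n, q) ∉ ({(4, 2), (4, 3), (6, 2)} : Set (ℕ × ℕ))) : Split (Cfsg.SU n F q) := by
  simp only [Set.mem_insert_iff, Set.mem_singleton_iff, Prod.mk.injEq, not_or] at hexc
  have hq := two_le_q hF
  rcases Nat.lt_or_ge q 4 with h | h
  · rcases (show q = 2 ∨ q = 3 by omega) with rfl | rfl
    · rcases Nat.lt_or_ge n 7 with h7 | h7
      · obtain rfl : n = 5 := by omega
        exact split_five_two hF
      · exact split_of_base hF (by norm_num) (fun e => by omega) (fun _ => by norm_num)
          (split_seven_two hF) h7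
    · rcases Nat.lt_or_ge n 5 with h5 | h5
      · obtain rfl : n = 3 := by omega
        exact split_three hF le_rfl
      · exact split_of_base hF (by norm_num) (fun e => by omega) (fun e => by omega)
          (split_five_three hF) h5
  · exact split_large hF h hn

/-- The centre is cyclic. -/
theorem isCyclic_center_su (hn : 2 ≤ n) : IsCyclic (Subgroup.center (Cfsg.SU n F q)) := by
  let i0 : Fin n := ⟨0, by omega⟩
  let f : Subgroup.center (Cfsg.SU n F q) →* F :=
    { toFun := fun g => (g.1.1 : Matrix (Fin n) (Fin n) F) i0 i0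
      map_one' := by simp
      map_mul' := fun g h => by
        obtain ⟨a, ha⟩ := (mem_center_SU_iff hF hn).1 g.2
        obtain ⟨b, hb⟩ := (mem_center_SU_iff hF hn).1 h.2
        show ((g.1.1 : Matrix (Fin n) (Fin n) F) * (h.1.1 : Matrix (Fin n) (Fin n) F)) i0 i0 = _
        rw [ha, hb]
        simp [mul_comm] }
  refine isCyclic_of_subgroup_isDomain f fun g h e => ?_
  obtain ⟨a, ha⟩ := (mem_center_SU_iff hF hn).1 g.2
  obtain ⟨b, hb⟩ := (mem_center_SU_iff hF hn).1 h.2
  have e' : (g.1.1 : Matrix (Fin n) (Fin n) F) i0 i0 = (h.1.1 : Matrix (Fin n) (Fin n) F) i0 i0 := e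
  rw [ha, hb] at e'
  simp at e'
  exact Subtype.ext (Subtype.ext (Subtype.ext (by rw [ha, hb, e'])))

/-- The multiplier. -/
theorem psu_multiplier (hn : 3 ≤ n) (h3 : ¬ (n = 3 ∧ q = 2))
    (hexc : (n, q) ∉ ({(4, 2), (4, 3), (6, 2)} : Set (ℕ × ℕ))) :
    Cfsg.HasCyclicSchurMultiplier (Cfsg.PSU n F q) (Nat.gcd n (q + 1)) := by
  haveI : NeZero (Nat.gcd n (q + 1)) := ⟨(Nat.gcd_pos_of_pos_left _ (by omega)).ne'⟩
  let τ := QuotientGroup.mk' (Subgroup.center (Cfsg.SU n F q))
  have hτker : τ.ker = Subgroup.center (Cfsg.SU n F q) := QuotientGroup.ker_mk' _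
  have hperf := commutator_SU_eq_top hF hn h3
  have hτ : Cfsg.IsStemExtension τ :=
    ⟨QuotientGroup.mk'_surjective _, hτker.le, by rw [hperf]; exact le_top⟩
  have hcard : Nat.card τ.ker = Nat.gcd n (q + 1) := by rw [hτker, card_center_SU hF (by omega)]
  have hcyc : IsCyclic τ.ker := by
    rw [hτker]
    exact isCyclic_center_su hF (by omega)
  refine CfsgLib.StemExt.hasCyclicSchurMultiplier τ hτ hcyc hcard fun Γ _ _ σ hσ => ?_
  obtain ⟨s, hs⟩ := split_su hF hn h3 hexc (Schur.pullback σ τ) (Schur.psnd σ τ)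
    (Schur.psnd_surjective σ τ hσ.1) (SLMult.psnd_ker_le_center σ τ hσ.2.1)
  obtain ⟨φ, hφ⟩ := SLMult.ker_bound hσ hτ.1 s hs
  exact ⟨isCyclic_of_surjective φ hφ, hcard ▸ Subgroup.card_dvd_of_surjective φ hφ⟩

end CfsgLib.UMult
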