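import Cfsg.Agent.Multiplier.Reduce
import Cfsg.Agent.SLMult.PSL

/-!
Central extensions with kernel of prime order: local criteria, lifts of commuting subgroups, and
splitting of perfect groups without stem extensions of prime degree.
-/

set_option autoImplicit false
set_option linter.style.haveILetI false
set_option linter.unusedSectionVars false

namespace CfsgLib.UMult

open Subgroup CfsgLib.Multiplier
open scoped commutatorElement

universe u

/-- Inside the inverse image of `H` no derived element lies in a kernel of order `ℓ`. -/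
def Loc {G : Type u} [Group G] (H : Subgroup G) (ℓ : ℕ) : Prop :=
  ∀ (Γ : Type u) [Group Γ] [Finite Γ] (σ : Γ →* G), Function.Surjective σ → σ.ker ≤ center Γ →
    Nat.card σ.ker = ℓ → ∀ z : Γ, σ z = 1 → z ∈ ⁅H.comap σ, H.comap σ⁆ → z = 1

/-- Every finite central extension splits. -/
def Split (G : Type u) [Group G] : Prop :=
  ∀ (Γ : Type u) [Group Γ] [Finite Γ] (σ : Γ →* G), Function.Surjective σ → σ.ker ≤ center Γ →
    ∃ s : G →* Γ, ∀ g, σ (s g) = g

section Central

variable {Γ G : Type*} [Group Γ] [Group G] {σ : Γ →* G} (hc : σ.ker ≤ center Γ)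
include hc

theorem ker_comm {z : Γ} (hz : σ z = 1) (g : Γ) : g * z = z * g := mem_center_iff.1 (hc hz) g

theorem comm_congr {a a' b b' : Γ} (ha : σ a = σ a') (hb : σ b = σ b') : ⁅a, b⁆ = ⁅a', b'⁆ := by
  have key : ∀ {x x' : Γ}, σ x = σ x' → ∀ g, x * g * x⁻¹ = x' * g * x'⁻¹ := fun {x x'} h g => by
    have hz := ker_comm hc (show σ (x'⁻¹ * x) = 1 by rw [map_mul, map_inv, h, inv_mul_cancel]) g
    calc x * g * x⁻¹ = x' * ((x'⁻¹ * x) * g) * x⁻¹ := by group
      _ = x' * (g * (x'⁻¹ * x)) * x⁻¹ := by rw [hz]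
      _ = _ := by group
  rw [commutatorElement_def, commutatorElement_def, key ha,
    show a' * b * a'⁻¹ * b⁻¹ = a' * (b * a'⁻¹ * b⁻¹) by group, key hb]
  group

theorem comm_mem_ker {a b : Γ} (h : σ a * σ b = σ b * σ a) : σ ⁅a, b⁆ = 1 := by
  rw [map_commutatorElement, commutatorElement_eq_one_iff_mul_comm]; exact h

theorem comm_mul_right {a b b' : Γ} (h : σ a * σ b' = σ b' * σ a) :
    ⁅a, b * b'⁆ = ⁅a, b⁆ * ⁅a, b'⁆ := by
  have hz := ker_comm hc (comm_mem_ker hc h) b
  rw [commutatorElement_def, commutatorElement_def]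
  calc a * (b * b') * a⁻¹ * (b * b')⁻¹ = a * b * a⁻¹ * (⁅a, b'⁆ * b⁻¹) := by
        rw [commutatorElement_def]; group
    _ = a * b * a⁻¹ * (b⁻¹ * ⁅a, b'⁆) := by
        congr 1
        rw [eq_inv_mul_iff_mul_eq, ← mul_assoc, hz, mul_inv_cancel_right]
    _ = a * b * a⁻¹ * b⁻¹ * (a * b' * a⁻¹ * b'⁻¹) := by rw [commutatorElement_def]; group

theorem comm_mul_left {a a' b : Γ} (h : σ a' * σ b = σ b * σ a') :
    ⁅a * a', b⁆ = ⁅a, b⁆ * ⁅a', b⁆ := by
  have hz := ker_comm hc (comm_mem_ker hc h)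
  calc ⁅a * a', b⁆ = a * ⁅a', b⁆ * (b * a⁻¹ * b⁻¹) := by
        rw [commutatorElement_def, commutatorElement_def]; group
    _ = ⁅a', b⁆ * ⁅a, b⁆ := by
        rw [hz a, commutatorElement_def, commutatorElement_def]; group
    _ = ⁅a, b⁆ * ⁅a', b⁆ := (hz _).symm

theorem comm_conj {a b : Γ} (h : σ a * σ b = σ b * σ a) (g : Γ) :
    ⁅g * a * g⁻¹, g * b * g⁻¹⁆ = ⁅a, b⁆ := by
  rw [← conjugate_commutatorElement, ker_comm hc (comm_mem_ker hc h) g, mul_inv_cancel_right]

/-- Lifts of a perfect group commute with what their images commute with. -/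
theorem commute_of_perfect {A : Type*} [Group A] (hA : commutator A = ⊤) (f : A →* Γ) {x : Γ}
    (h : ∀ a, σ x * σ (f a) = σ (f a) * σ x) (a : A) : Commute x (f a) := by
  let ψ : A →* center Γ :=
    { toFun := fun a => ⟨⁅x, f a⁆, hc (comm_mem_ker hc (h a))⟩
      map_one' := Subtype.ext (by simp [commutatorElement_def])
      map_mul' := fun a b => Subtype.ext (by
        show ⁅x, f (a * b)⁆ = ⁅x, f a⁆ * ⁅x, f b⁆
        rw [map_mul, comm_mul_right hc (h b)]) }
  have hψ : ψ a = 1 := by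
    have : commutator A ≤ ψ.ker := by
      rw [commutator_def, commutator_le]
      intro u _ v _
      rw [MonoidHom.mem_ker, map_commutatorElement, commutatorElement_eq_one_iff_mul_comm]
      exact Subtype.ext (mem_center_iff.1 (ψ v).2 _)
    exact this (hA ▸ mem_top a)
  exact commutatorElement_eq_one_iff_mul_comm.1 (congrArg Subtype.val hψ)

/-- Lifts of a perfect group are unique. -/
theorem lift_unique {A : Type*} [Group A] (hA : commutator A = ⊤) {f f' : A →* Γ}
    (h : ∀ a, σ (f a) = σ (f' a)) : f = f' := by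
  refine MonoidHom.ext fun a => ?_
  have : commutator A ≤ f.eqLocus f' := by
    rw [commutator_def, commutator_le]
    intro u _ v _
    show f ⁅u, v⁆ = f' ⁅u, v⁆
    rw [map_commutatorElement, map_commutatorElement]
    exact comm_congr hc (h u) (h v)
  exact this (hA ▸ mem_top a)

end Central

theorem noStem_of_equiv {G G' : Type u} [Group G] [Group G'] {p : ℕ} (e : G ≃* G') (h : NoStem G p) :
    NoStem G' p := by
  intro Γ _ _ σ hσ hcard
  have hk : (e.symm.toMonoidHom.comp σ).ker = σ.ker := MonoidHom.ker_mulEquiv_comp _ e.symm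
  refine h Γ (e.symm.toMonoidHom.comp σ)
    ⟨e.symm.surjective.comp hσ.1, hk ▸ hσ.2.1, hk ▸ hσ.2.2⟩ ?_
  rw [hk]; exact hcard

/-- A local criterion: a subgroup of index prime to `ℓ`. -/
theorem noStem_of_loc {G : Type u} [Group G] [Finite G] {ℓ : ℕ} (hℓ : ℓ.Prime) (H : Subgroup G)
    (hidx : ¬ ℓ ∣ H.index) (hL : Loc H ℓ) : NoStem G ℓ := by
  intro Γ _ _ σ hσ hcard
  set Ht := H.comap σ
  have hHi : Ht.index = H.index := Subgroup.index_comap_of_surjective _ hσ.1
  obtain ⟨⟨z, hz⟩, hzne⟩ : ∃ z : σ.ker, z ≠ 1 := by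
    haveI : Nontrivial σ.ker := Finite.one_lt_card_iff_nontrivial.1 (hcard ▸ hℓ.one_lt)
    exact exists_ne 1
  have hord : z ^ ℓ = 1 := by
    have := pow_card_eq_one' (x := (⟨z, hz⟩ : σ.ker))
    rw [hcard] at this
    exact congrArg Subtype.val this
  have hcen := mem_center_iff.1 (hσ.2.1 hz)
  let φ : Ht →* Abelianization Ht := Abelianization.of
  have key : ∀ (k : ℕ) (g₀ : Γ), g₀⁻¹ * z ^ k * g₀ ∈ Ht →
      g₀⁻¹ * z ^ k * g₀ = z ^ k := fun k g₀ _ => by
    rw [mul_assoc, ← ((show Commute g₀ z from hcen g₀).pow_right k).eq, inv_mul_cancel_left]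
  have h1 : φ.transfer z = 1 := Abelianization.commutator_subset_ker φ.transfer (hσ.2.2 hz)
  rw [MonoidHom.transfer_eq_pow φ z key] at h1
  have hmem : z ^ Ht.index ∈ ⁅Ht, Ht⁆ := by
    have h2 : (⟨z ^ Ht.index, pow_mem (show z ∈ Ht from (by
        show σ z ∈ H; rw [show σ z = 1 from hz]; exact one_mem H)) _⟩ : Ht) ∈ commutator Ht := by
      rw [← Abelianization.ker_of, MonoidHom.mem_ker]
      exact (congrArg φ (Subtype.ext rfl)).trans h1
    rw [← Subgroup.map_subtype_commutator]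
    exact ⟨_, h2, rfl⟩
  have h3 : z ^ Ht.index = 1 :=
    hL Γ σ hσ.1 hσ.2.1 hcard _ (by rw [map_pow, show σ z = 1 from hz, one_pow]) hmem
  have hcop : Nat.Coprime ℓ Ht.index := hℓ.coprime_iff_not_dvd.2 (hHi ▸ hidx)
  exact hzne (Subtype.ext ((pow_eq_one_iff_of_coprime hcop.symm).1 ⟨h3, hord⟩))

theorem loc_mono {G : Type u} [Group G] {H K : Subgroup G} {ℓ : ℕ} (hle : H ≤ K) (h : Loc K ℓ) :
    Loc H ℓ := fun Γ _ _ σ h1 h2 h3 z hz hzm =>
  h Γ σ h1 h2 h3 z hz (commutator_mono (comap_mono hle) (comap_mono hle) hzm)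

theorem loc_of_cyclic {G : Type u} [Group G] {H : Subgroup G} [IsCyclic H] {ℓ : ℕ} : Loc H ℓ := by
  intro Γ _ _ σ _ hc _ z _ hz
  obtain ⟨⟨t, ht⟩, htgen⟩ := IsCyclic.exists_generator (α := H)
  suffices h : ⁅H.comap σ, H.comap σ⁆ ≤ ⊥ from mem_bot.1 (h hz)
  rw [commutator_le]
  intro a ha b hb
  obtain ⟨i, hi⟩ := mem_zpowers_iff.1 (htgen ⟨σ a, ha⟩)
  obtain ⟨j, hj⟩ := mem_zpowers_iff.1 (htgen ⟨σ b, hb⟩)
  have hi' : t ^ i = σ a := congrArg Subtype.val hi
  have hj' : t ^ j = σ b := congrArg Subtype.val hj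
  rw [mem_bot]
  by_cases hex : ∃ γ, σ γ = t
  · obtain ⟨γ, hγ⟩ := hex
    rw [comm_congr hc (a' := γ ^ i) (b' := γ ^ j) (by rw [map_zpow, hγ, hi'])
      (by rw [map_zpow, hγ, hj']), commutatorElement_eq_one_iff_mul_comm]
    exact ((Commute.refl γ).zpow_zpow i j).eq
  · exact absurd ⟨_, Function.surjInv_eq (by assumption) t⟩ hex

/-- A normal subgroup `S` with cyclic quotient, generated by elements of order prime to `ℓ` and
without stem extensions of degree `ℓ`. -/
theorem loc_of_normal {G : Type u} [Group G] [Finite G] {ℓ : ℕ} [Fact ℓ.Prime] {H S : Subgroup G}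
    (hn : ∀ h ∈ H, ∀ x ∈ S, h * x * h⁻¹ ∈ S) (t : G) (ht : t ∈ H)
    (hH : ∀ h ∈ H, ∃ i : ℤ, ∃ x ∈ S, h = x * t ^ i) {m : ℕ} (hm : ¬ ℓ ∣ m)
    (hgen : S ≤ closure {x | x ∈ S ∧ x ^ m = 1}) (hS : NoStem S ℓ) : Loc H ℓ := by
  intro Γ _ _ σ hsur hc hcard z hz hzm
  have hℓ : ℓ.Prime := Fact.out
  have hcop : Nat.Coprime ℓ m := hℓ.coprime_iff_not_dvd.2 hm
  have hkpow : ∀ w : Γ, σ w = 1 → w ^ ℓ = 1 := fun w hw => by
    have := pow_card_eq_one' (x := (⟨w, hw⟩ : σ.ker))
    rw [hcard] at this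
    exact congrArg Subtype.val this
  let M : Set Γ := {x | σ x ∈ S ∧ x ^ m = 1}
  set L := closure M
  have hLS : ∀ x ∈ L, σ x ∈ S := by
    have : L ≤ S.comap σ := (closure_le _).2 fun x hx => hx.1
    exact this
  have hLmap : ∀ s ∈ S, ∃ x ∈ L, σ x = s := by
    have : closure {x | x ∈ S ∧ x ^ m = 1} ≤ L.map σ := by
      rw [closure_le]
      rintro s ⟨hs, hsm⟩
      obtain ⟨x, rfl⟩ := hsur s
      have hk : σ (x ^ m) = 1 := by rw [map_pow, hsm]
      obtain ⟨a, b, hab⟩ : ∃ a b : ℤ, a * ℓ + b * m = 1 :=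
        ⟨Nat.gcdA ℓ m, Nat.gcdB ℓ m, by
          have := Nat.gcd_eq_gcd_ab ℓ m
          rw [hcop.gcd_eq_one] at this
          push_cast at this
          linarith⟩
      refine ⟨x ^ (a * ℓ), subset_closure ⟨?_, ?_⟩, ?_⟩
      · rw [map_zpow]; exact zpow_mem hs _
      · rw [← zpow_natCast, ← zpow_mul, show a * ℓ * (m : ℤ) = (m * ℓ : ℕ) * a by push_cast; ring,
          zpow_mul, zpow_natCast, pow_mul, hkpow _ hk, one_zpow]
      · have e : a * ℓ = 1 - b * m := by linarith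
        rw [map_zpow, e, zpow_sub, zpow_one, mul_comm b, zpow_mul, zpow_natCast, hsm, one_zpow,
          inv_one, mul_one]
    intro s hs
    obtain ⟨x, hx, e⟩ := this (hgen hs)
    exact ⟨x, hx, e⟩
  have hker : ∀ w ∈ L, σ w = 1 → w = 1 := by
    intro w hw hw1
    by_contra hne
    let f : L →* S := (σ.comp L.subtype).codRestrict S fun x => hLS x x.2
    have hfs : Function.Surjective f := fun s => by
      obtain ⟨x, hx, e⟩ := hLmap s s.2
      exact ⟨⟨x, hx⟩, Subtype.ext e⟩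
    have hfk : ∀ x : L, x ∈ f.ker ↔ σ (x : Γ) = 1 := fun x =>
      ⟨fun e => congrArg Subtype.val e, fun e => Subtype.ext e⟩
    let k : f.ker →* σ.ker := (L.subtype.comp f.ker.subtype).codRestrict σ.ker fun x =>
      (hfk x.1).1 x.2
    have hkinj : Function.Injective k := fun a b e =>
      Subtype.ext (Subtype.ext (congrArg (Subtype.val : σ.ker → Γ) e))
    have hfc : Nat.card f.ker = ℓ := by
      rcases (Nat.dvd_prime hℓ).1 (hcard ▸ Subgroup.card_dvd_of_injective k hkinj) with h | h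
      · refine absurd ?_ hne
        have h' := (Nat.card_eq_one_iff_unique.1 h).1
        exact congrArg (fun x : f.ker => ((x : L) : Γ))
          (Subsingleton.elim (⟨⟨w, hw⟩, (hfk _).2 hw1⟩ : f.ker) 1)
      · exact h
    refine hS L f ⟨hfs, fun x hx => mem_center_iff.2 fun y => Subtype.ext
      (ker_comm hc ((hfk x).1 hx) y), ?_⟩ hfc
    intro x hx
    have hab : ∀ y : L, Abelianization.of y ^ m = 1 := fun y => by
      obtain ⟨y, hy⟩ := y
      induction hy using closure_induction with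
      | mem a ha =>
        rw [← map_pow, show (⟨a, subset_closure ha⟩ : L) ^ m = 1 from Subtype.ext ha.2, map_one]
      | one => rw [show (⟨1, one_mem L⟩ : L) = 1 from rfl, map_one, one_pow]
      | mul a b ha hb iha ihb =>
        rw [show (⟨a * b, mul_mem ha hb⟩ : L) = ⟨a, ha⟩ * ⟨b, hb⟩ from rfl, map_mul, mul_pow, iha, ihb,
          one_mul]
      | inv a ha iha =>
        rw [show (⟨a⁻¹, inv_mem ha⟩ : L) = (⟨a, ha⟩ : L)⁻¹ from rfl, map_inv, inv_pow, iha, inv_one]
    have h2 : Abelianization.of x ^ ℓ = 1 := by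
      rw [← map_pow, show x ^ ℓ = 1 from Subtype.ext (by
        rw [SubgroupClass.coe_pow]; exact hkpow _ ((hfk x).1 hx)), map_one]
    rw [← Abelianization.ker_of, MonoidHom.mem_ker]
    exact (pow_eq_one_iff_of_coprime hcop).1 ⟨h2, hab x⟩
  have hnorm : ∀ γ ∈ H.comap σ, ∀ x ∈ L, γ * x * γ⁻¹ ∈ L := by
    intro γ hγ
    have : L ≤ L.comap (MulAut.conj γ).toMonoidHom := (closure_le _).2 fun x hx =>
      subset_closure ⟨by
        show σ (γ * x * γ⁻¹) ∈ S
        rw [map_mul, map_mul, map_inv]; exact hn _ hγ _ hx.1,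
        by show (γ * x * γ⁻¹) ^ m = 1; rw [conj_pow, hx.2, mul_one, mul_inv_cancel]⟩
    exact fun x hx => this hx
  obtain ⟨tt, htt⟩ := hsur t
  have hdec : ∀ γ ∈ H.comap σ, ∃ l ∈ L, ∃ i : ℤ, σ γ = σ (l * tt ^ i) := fun γ hγ => by
    obtain ⟨i, x, hx, e⟩ := hH _ hγ
    obtain ⟨l, hl, el⟩ := hLmap x hx
    exact ⟨l, hl, i, by rw [e, map_mul, map_zpow, el, htt]⟩
  have httH : ∀ i : ℤ, tt ^ i ∈ H.comap σ := fun i => zpow_mem (by
    show σ tt ∈ H; rw [htt]; exact ht) i
  have hle : ⁅H.comap σ, H.comap σ⁆ ≤ L := by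
    rw [commutator_le]
    intro a ha b hb
    obtain ⟨l, hl, i, ea⟩ := hdec a ha
    obtain ⟨l', hl', j, eb⟩ := hdec b hb
    rw [comm_congr hc ea eb]
    have e : ⁅l * tt ^ i, l' * tt ^ j⁆ =
        l * (tt ^ i * l' * (tt ^ i)⁻¹) * (tt ^ j * l⁻¹ * (tt ^ j)⁻¹) * l'⁻¹ := by
      rw [commutatorElement_def]; group
    rw [e]
    exact mul_mem (mul_mem (mul_mem hl (hnorm _ (httH i) _ hl')) (hnorm _ (httH j) _ (inv_mem hl)))
      (inv_mem hl')
  exact hker z (hle hzm) hz

/-- A perfect group without stem extensions of prime degree has only split central extensions. -/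
theorem split_of_noStem {G : Type u} [Group G] (hperf : commutator G = ⊤)
    (h : ∀ p, p.Prime → NoStem G p) : Split G := by
  intro Γ _ _ σ hsur hc
  have hst := SLMult.derived_stem σ hsur hc hperf
  have hb : (σ.comp (commutator Γ).subtype).ker = ⊥ := by
    by_contra hne
    obtain ⟨p, hp, hn⟩ := exists_prime_quotient _ hst hne
    exact hn (h p hp)
  let e := MulEquiv.ofBijective _ ⟨(MonoidHom.ker_eq_bot_iff _).1 hb, hst.1⟩
  exact ⟨(commutator Γ).subtype.comp e.symm.toMonoidHom, fun g => e.apply_symm_apply g⟩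

/-- A split group has no stem extension of prime degree. -/
theorem noStem_of_split {G : Type u} [Group G] (h : Split G) {p : ℕ} (hp : p.Prime) : NoStem G p := by
  intro Γ _ _ σ hσ hcard
  obtain ⟨s, hs⟩ := h Γ σ hσ.1 hσ.2.1
  have hb : σ.ker = ⊥ := by
    refine ker_eq_bot_of_complement σ hσ s.range ?_ ?_
    · rw [eq_bot_iff]
      rintro _ ⟨⟨g, rfl⟩, hg⟩
      have hg' : g = 1 := (hs g).symm.trans hg
      rw [hg', map_one]
      exact mem_bot.2 rfl
    · rw [eq_top_iff]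
      intro x _
      have hk : (s (σ x))⁻¹ * x ∈ σ.ker := by
        rw [MonoidHom.mem_ker, map_mul, map_inv, hs, inv_mul_cancel]
      have := mul_mem_sup (show s (σ x) ∈ s.range from ⟨_, rfl⟩) hk
      rwa [mul_inv_cancel_left] at this
  rw [hb, card_bot] at hcard
  exact hp.ne_one hcard.symm

end CfsgLib.UMult
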