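import Cfsg.Agent.UMult.Basic
import Cfsg.Agent.Phan.Step
import Cfsg.Agent.Unitary.Two
import Cfsg.Agent.SL2Mult.Main
import Cfsg.Agent.MinIdxPSU.Count
import Cfsg.Agent.MinIdxPSU.Cocycle
import Cfsg.Agent.Unitary.Generated

/-!
Block stabilisers in the special unitary groups and their central extensions in cross characteristic.
-/

set_option autoImplicit false
set_option linter.style.haveILetI false
set_option linter.unusedSectionVars false

namespace CfsgLib.UMult

open Matrix CfsgLib.Unitary CfsgLib.Forms CfsgLib.Phan CfsgLib.Multiplier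
open CfsgLib.MinIdxPSU (card_fix_skew diagSU diagSU_apply)

universe u

/-- `SL₂(q)` has no stem extension of degree prime to the characteristic. -/
theorem noStem_sl_two {K : Type u} [Field K] [Fintype K] (p : ℕ) [Fact p.Prime] [CharP K p] {ℓ : ℕ}
    (hℓ : ℓ.Prime) (hℓp : ℓ ≠ p) : NoStem (SL2C.SL K) ℓ := by
  classical
  intro Γ _ _ σ hσ hcard
  haveI := Fact.mk hℓ
  have hPk : IsPGroup ℓ σ.ker := IsPGroup.of_card (n := 1) (by rw [hcard, pow_one])
  obtain ⟨P, hP⟩ := hPk.exists_le_sylow
  have hstem := SL2Mult.isStemExtension_sylow hσ P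
  set Q := P.mapSurjective hσ.1
  have hQ : (Q : Subgroup (SL2C.SL K)) = (P : Subgroup Γ).map σ := Sylow.coe_mapSurjective hσ.1 P
  have hb : (σ.subgroupMap (P : Subgroup Γ)).ker = ⊥ := by
    rcases eq_or_ne ℓ 2 with rfl | hℓ2
    · obtain ⟨n, -, hn⟩ := FiniteField.card K p
      have hodd : Odd (Fintype.card K) := by
        rw [hn]
        exact ((Fact.out : p.Prime).odd_of_ne_two fun e => hℓp e.symm).pow
      obtain ⟨k, -, ⟨e⟩⟩ := CfsgLib.Linear.SylowTwoSL.exists_quaternion hodd Q
      let e' : ((P : Subgroup Γ).map σ) ≃* QuaternionGroup (2 ^ k) :=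
        (MulEquiv.subgroupCongr hQ.symm).trans e
      let τ := e'.toMonoidHom.comp (σ.subgroupMap (P : Subgroup Γ))
      have hker : τ.ker = (σ.subgroupMap (P : Subgroup Γ)).ker :=
        MonoidHom.ker_mulEquiv_comp _ e'
      have hτ : Cfsg.IsStemExtension τ :=
        ⟨e'.surjective.comp hstem.1, hker ▸ hstem.2.1, hker ▸ hstem.2.2⟩
      rw [← hker]
      exact CfsgLib.StemExt.quaternion_ker hτ
    · have : IsCyclic ((P : Subgroup Γ).map σ) := by
        rw [← hQ]
        exact CfsgLib.Linear.SylowDim.isCyclic_sylow_sl (F := K) p hℓ2 hℓp Q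
      exact CfsgLib.StemExt.ker_eq_bot_of_isCyclic hstem
  have hbot : σ.ker = ⊥ := by
    rw [eq_bot_iff]
    intro z hz
    have h1 : (⟨z, hP hz⟩ : (P : Subgroup Γ)) ∈ (σ.subgroupMap (P : Subgroup Γ)).ker :=
      MonoidHom.mem_ker.2 (Subtype.ext hz)
    rw [hb, Subgroup.mem_bot] at h1
    exact Subgroup.mem_bot.2 (congrArg Subtype.val h1)
  rw [hbot, Subgroup.card_bot] at hcard
  exact hℓ.ne_one hcard.symm

variable {F : Type u} [Field F] [Finite F] {q : ℕ} (hF : Nat.card F = q ^ 2)

include hF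

/-- The prime of the field. -/
theorem exists_char : ∃ p k : ℕ, CharP F p ∧ p.Prime ∧ 0 < k ∧ q = p ^ k := by
  obtain ⟨p, k, h1, h2, h3⟩ := exists_charP_pow hF
  refine ⟨p, k, h1, h2, Nat.pos_of_ne_zero fun e => ?_, h3⟩
  have := two_le_q hF
  rw [h3, e, pow_zero] at this
  omega

theorem noStem_su_two (p : ℕ) [Fact p.Prime] [CharP F p] {ℓ : ℕ} (hℓ : ℓ.Prime) (hℓp : ℓ ≠ p) :
    NoStem (Cfsg.SU 2 F q) ℓ := by
  let K := (frobQ hF).eqLocusField (RingHom.id F)
  haveI := Fintype.ofFinite K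
  haveI : CharP K p := K.subtype.charP K.subtype.injective p
  have hK : Nat.card K = q := (card_fix_skew hF).1
  obtain ⟨e⟩ := su_two_iso hF (K := K) hK
  exact noStem_of_equiv e.symm (noStem_sl_two (K := K) p hℓ hℓp)

/-- Generation by elements of the order of the characteristic. -/
theorem closure_pow_eq (p : ℕ) [Fact p.Prime] [CharP F p] {n : ℕ} (hn : 1 ≤ n)
    (h32 : ¬ (n = 3 ∧ q = 2)) :
    Subgroup.closure {x : Cfsg.SU n F q | x ^ p = 1} = ⊤ := by
  rw [eq_top_iff, ← tvGroup_eq_top hF hn h32]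
  refine Subgroup.closure_mono ?_
  rintro A ⟨v, c, hv, hA⟩
  have hpow : ∀ (i : ℕ) (x : Fin n → F),
      suMat (A ^ i) *ᵥ x = x + ((i : F) * c * Cfsg.hermForm n F q x v) • v := by
    intro i
    induction i with
    | zero => intro x; rw [pow_zero, suMat_one, Matrix.one_mulVec]; simp
    | succ i ih =>
      intro x
      rw [pow_succ', suMat_mul, ← Matrix.mulVec_mulVec, ih, hA, utv_mulVec, herm_add_left,
        herm_smul_left, hv, mul_zero, add_zero]
      push_cast
      module
  show A ^ p = 1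
  refine Unitary.su_ext fun x => ?_
  rw [hpow, CharP.cast_eq_zero, zero_mul, zero_mul, zero_smul, add_zero, suMat_one, Matrix.one_mulVec]

omit hF in
/-- The stabiliser of a coordinate line. -/
def lineStab (n : ℕ) (F : Type u) [Field F] [Finite F] (q : ℕ) (i : Fin n) :
    Subgroup (Cfsg.SU n F q) where
  carrier := {g | ∃ c : F, act g (ev i) = c • ev i}
  one_mem' := ⟨1, by rw [act_one, one_smul]⟩
  mul_mem' := fun {a b} ⟨c, hc⟩ ⟨d, hd⟩ => ⟨d * c, by rw [act_mul, hd, act_smul, hc, smul_smul]⟩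
  inv_mem' := fun {a} ⟨c, hc⟩ => ⟨c⁻¹, by
    have h := act_inv_act a (ev i : Fin n → F)
    rw [hc, act_smul] at h
    rcases eq_or_ne c 0 with rfl | hc0
    · rw [zero_smul] at h
      have := congrFun h i
      simp [ev] at this
    · conv_rhs => rw [← h, smul_smul, inv_mul_cancel₀ hc0, one_smul]⟩

variable {n : ℕ} {i : Fin n}

omit hF in
theorem lineStab_ev {g : Cfsg.SU n F q} (hg : g ∈ lineStab n F q i) :
    act g (ev i) = act g (ev i) i • ev i := by
  obtain ⟨c, hc⟩ := hg
  rw [hc]
  simp [ev]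

theorem lineStab_norm {g : Cfsg.SU n F q} (hg : g ∈ lineStab n F q i) :
    act g (ev i) i * act g (ev i) i ^ q = 1 := by
  have h := act_herm g (ev i : Fin n → F) (ev i)
  rw [lineStab_ev hg, herm_smul_left, herm_smul_right hF, herm_ev hF, if_pos rfl, mul_one] at h
  exact h

/-- The eigenvalue on the line. -/
noncomputable def lineVal (i : Fin n) : lineStab n F q i →* Fˣ where
  toFun g := Units.mkOfMulEqOne (act (g : Cfsg.SU n F q) (ev i) i) _ (lineStab_norm hF g.2)
  map_one' := Units.ext (by simp [act_one, ev])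
  map_mul' g h := Units.ext (by
    show act ((g : Cfsg.SU n F q) * (h : Cfsg.SU n F q)) (ev i) i = act _ (ev i) i * act _ (ev i) i
    rw [act_mul, lineStab_ev h.2, act_smul, Pi.smul_apply, smul_eq_mul]
    simp [ev, mul_comm])

theorem lineVal_apply (g : lineStab n F q i) :
    ((lineVal hF i g : Fˣ) : F) = act (g : Cfsg.SU n F q) (ev i) i := rfl

/-- An element with a prescribed eigenvalue on the last line. -/
theorem exists_line_elem {m : ℕ} (hm : 1 ≤ m) {a : Fˣ} (ha : a ^ (q + 1) = 1) :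
    ∃ t : lineStab (m + 1) F q (Fin.last m), lineVal hF (Fin.last m) t = a := by
  classical
  set d : Fin (m + 1) → F := fun j =>
    if j = ⟨0, by omega⟩ then ((a⁻¹ : Fˣ) : F) else if j = Fin.last m then (a : F) else 1 with hd
  have hne : (⟨0, by omega⟩ : Fin (m + 1)) ≠ Fin.last m := fun e => by
    have := congrArg Fin.val e
    simp at this
    omega
  have ha1 : (a : F) * (a : F) ^ q = 1 := by
    rw [← pow_succ', ← Units.val_pow_eq_pow_val, ha, Units.val_one]
  have ha2 : ((a⁻¹ : Fˣ) : F) * ((a⁻¹ : Fˣ) : F) ^ q = 1 := by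
    rw [← pow_succ', ← Units.val_pow_eq_pow_val, inv_pow, ha, inv_one, Units.val_one]
  have h1 : ∀ j, d j * d j ^ q = 1 := fun j => by
    simp only [hd]
    split_ifs
    · exact ha2
    · exact ha1
    · rw [one_pow, one_mul]
  have h2 : ∏ j, d j = 1 := by
    have e : ∀ j, d j = (if j = ⟨0, by omega⟩ then ((a⁻¹ : Fˣ) : F) else 1) *
        (if j = Fin.last m then (a : F) else 1) := fun j => by
      simp only [hd]
      split_ifs with h h'
      · exact absurd (h.symm.trans h') hne
      all_goals simp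
    rw [Finset.prod_congr rfl fun j _ => e j, Finset.prod_mul_distrib]
    simp
  let t := diagSU d h1 h2
  have ht : act t (ev (Fin.last m)) = (a : F) • ev (Fin.last m) := by
    funext j
    show (suMat (diagSU d h1 h2) *ᵥ _) j = _
    rw [diagSU_apply]
    by_cases hj : j = Fin.last m
    · subst hj
      have hval : d (Fin.last m) = (a : F) := by
        show (if Fin.last m = _ then _ else _) = _
        rw [if_neg hne.symm, if_pos rfl]
      simp [ev, hval]
    · simp [ev, hj]
  refine ⟨⟨t, _, ht⟩, Units.ext ?_⟩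
  rw [lineVal_apply, ht]
  simp [ev]

variable {m : ℕ}

theorem mem_range_fix {g : Cfsg.SU (m + 1) F q} :
    g ∈ (emb (F := F) (q := q) (win 0 m (m + 1) (by omega))).range ↔
      act g (ev (Fin.last m)) = ev (Fin.last m) := by
  rw [mem_range_emb hF]
  constructor
  · intro h
    exact h _ (by rw [mem_range_win]; simp)
  · intro h j hj
    obtain rfl : j = Fin.last m := by
      rw [mem_range_win] at hj
      exact Fin.ext (by simp; omega)
    exact h

theorem ker_lineVal :
    (lineVal hF (Fin.last m)).ker.map (lineStab (m + 1) F q (Fin.last m)).subtype =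
      (emb (F := F) (q := q) (win 0 m (m + 1) (by omega))).range := by
  refine le_antisymm ?_ ?_
  · rintro _ ⟨g, hg, rfl⟩
    refine (mem_range_fix hF).2 ?_
    have e := congrArg Units.val (MonoidHom.mem_ker.1 hg)
    rw [lineVal_apply, Units.val_one] at e
    show act (g : Cfsg.SU (m + 1) F q) _ = _
    rw [lineStab_ev g.2, e, one_smul]
  · intro g hg
    have h := (mem_range_fix hF).1 hg
    refine ⟨⟨g, 1, by rw [h, one_smul]⟩, MonoidHom.mem_ker.2 (Units.ext ?_), rfl⟩
    rw [lineVal_apply]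
    show act g _ _ = 1
    rw [h]
    simp [ev]

/-- The norm one elements. -/
theorem card_normOne : Nat.card (powMonoidHom (q + 1) : Fˣ →* Fˣ).ker = q + 1 := by
  refine Eq.trans ?_ (card_norm_fiber hF (μ := (1 : F)) one_ne_zero (one_pow q))
  refine Nat.card_congr
    { toFun := fun x => ⟨((x : Fˣ) : F), by
        have h : (x : Fˣ) ^ (q + 1) = 1 := x.2
        rw [← Units.val_pow_eq_pow_val, h, Units.val_one]⟩
      invFun := fun x => ⟨Units.mk0 x.1 (fun e => by
        have h := x.2
        rw [e, zero_pow (by omega)] at h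
        exact zero_ne_one h), Units.ext x.2⟩
      left_inv := fun x => Subtype.ext (Units.ext rfl)
      right_inv := fun x => rfl }

theorem range_lineVal (hm : 1 ≤ m) :
    (lineVal (q := q) hF (Fin.last m)).range = (powMonoidHom (q + 1) : Fˣ →* Fˣ).ker := by
  refine le_antisymm ?_ ?_
  · rintro _ ⟨g, rfl⟩
    refine Units.ext ?_
    show ((lineVal hF (Fin.last m) g : Fˣ) : F) ^ (q + 1) = 1
    rw [lineVal_apply, pow_succ']
    exact lineStab_norm hF g.2
  · intro a ha
    exact exists_line_elem hF hm ha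

/-- The order of the stabiliser. -/
theorem card_lineStab (hm : 1 ≤ m) :
    Nat.card (lineStab (m + 1) F q (Fin.last m)) = Nat.card (Cfsg.SU m F q) * (q + 1) := by
  rw [← (lineVal hF (Fin.last m)).ker.card_mul_index, Subgroup.index_ker, range_lineVal hF hm,
    card_normOne hF]
  congr 1
  rw [← Subgroup.card_map_of_injective (lineStab (m + 1) F q (Fin.last m)).subtype_injective,
    ker_lineVal hF]
  exact (Nat.card_congr (MonoidHom.ofInjective (Phan.emb_injective _)).toEquiv).symm

/-- The index of the stabiliser. -/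
theorem index_lineStab (hm : 1 ≤ m) :
    (lineStab (m + 1) F q (Fin.last m)).index * (Nat.card (Cfsg.SU m F q) * (q + 1)) =
      Nat.card (Cfsg.SU (m + 1) F q) := by
  rw [← card_lineStab hF hm, mul_comm, Subgroup.card_mul_index]

/-- The local criterion on the stabiliser. -/
theorem loc_line (hm : 1 ≤ m) (h32 : ¬ (m = 3 ∧ q = 2)) (p : ℕ) [Fact p.Prime] [CharP F p] {ℓ : ℕ}
    (hℓ : ℓ.Prime) (hℓp : ℓ ≠ p) (hS : NoStem (Cfsg.SU m F q) ℓ) :
    Loc (lineStab (m + 1) F q (Fin.last m)) ℓ := by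
  haveI := Fact.mk hℓ
  set H := lineStab (m + 1) F q (Fin.last m)
  set S := (emb (F := F) (q := q) (win 0 m (m + 1) (by omega))).range with hSdef
  obtain ⟨a, ha⟩ := IsCyclic.exists_generator (α := (powMonoidHom (q + 1) : Fˣ →* Fˣ).ker)
  obtain ⟨t, ht⟩ := exists_line_elem hF hm (a := (a : Fˣ)) a.2
  have hkm : ∀ g : H, lineVal hF (Fin.last m) g = 1 → (g : Cfsg.SU (m + 1) F q) ∈ S := fun g hg =>
    (ker_lineVal hF).le ⟨g, hg, rfl⟩
  refine loc_of_normal (S := S) (fun h hh x hx => ?_) (t : Cfsg.SU (m + 1) F q) t.2 (fun h hh => ?_)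
    (m := p) (fun h => hℓp ((Nat.prime_dvd_prime_iff_eq hℓ Fact.out).1 h)) ?_ ?_
  · obtain ⟨x', hx', rfl⟩ := (ker_lineVal hF).ge hx
    have e : lineVal hF (Fin.last m) ((⟨h, hh⟩ : H) * x' * (⟨h, hh⟩ : H)⁻¹) = 1 := by
      rw [map_mul, map_mul, map_inv, MonoidHom.mem_ker.1 hx', mul_one, mul_inv_cancel]
    have h3 := hkm _ e
    simp only [Subgroup.coe_mul, Subgroup.coe_inv] at h3
    exact h3
  · have hv : lineVal hF (Fin.last m) ⟨h, hh⟩ ∈ (powMonoidHom (q + 1) : Fˣ →* Fˣ).ker :=
      (range_lineVal hF hm).le ⟨_, rfl⟩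
    obtain ⟨j, hj⟩ := Subgroup.mem_zpowers_iff.1 (ha ⟨_, hv⟩)
    refine ⟨j, h * (t : Cfsg.SU (m + 1) F q) ^ (-j), ?_, by group⟩
    refine hkm (⟨h, hh⟩ * t ^ (-j)) ?_
    rw [map_mul, map_zpow, ht, show lineVal hF (Fin.last m) ⟨h, hh⟩ = (a : Fˣ) ^ j from
      (congrArg Subtype.val hj).symm.trans (by simp)]
    group
  · rw [hSdef, MonoidHom.range_eq_map, ← closure_pow_eq hF p hm h32, MonoidHom.map_closure,
      Subgroup.closure_le]
    rintro _ ⟨x, hx, rfl⟩
    refine Subgroup.subset_closure ⟨?_, by rw [← map_pow, show x ^ p = 1 from hx, map_one]⟩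
    exact Subgroup.subset_closure ⟨x, hx, rfl⟩
  · exact noStem_of_equiv (MonoidHom.ofInjective (Phan.emb_injective _)) hS

end CfsgLib.UMult
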