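import Cfsg.Agent.UMult.Block
import Cfsg.Agent.MinIdxPSU.Bound

/-!
The radical of the stabiliser of an isotropic point, extended by its complement: no derived element
of a central extension lies in the kernel, over a prime field.
-/

set_option autoImplicit false
set_option linter.style.haveILetI false
set_option linter.unusedSectionVars false

namespace CfsgLib.UMult

open Matrix CfsgLib.Unitary CfsgLib.Forms CfsgLib.MinIdxPSU CfsgLib.Multiplier
open scoped commutatorElement Pointwise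

universe u

variable {F : Type u} [Field F] [Finite F] {q k : ℕ} (hF : Nat.card F = q ^ 2)

include hF

/-- The coordinate of a radical element. -/
noncomputable def vc (g : G k F q) : Fin k → F := proj (suMat g *ᵥ fv hF)

theorem vc_rad {a : Fin k → F} {s : F} (hs : HeisCond q a s) : vc hF (rad hF a s hs) = a := by
  rw [vc, rad_apply hF, herm_fe hF, herm_fv_emb hF, map_add, map_add, map_smul, map_smul, proj_fv hF,
    proj_ev hF, proj_emb]
  simp

theorem rad_zero (hs : HeisCond q (0 : Fin k → F) 0) : rad hF (0 : Fin k → F) 0 hs = 1 :=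
  su_ext fun y => by
    rw [rad_apply hF, suMat_one, Matrix.one_mulVec, map_zero]
    simp [Cfsg.hermForm, zero_pow (show q ≠ 0 by have := two_le_q hF; omega)]

/-- The radical. -/
noncomputable def Qs : Subgroup (G k F q) where
  carrier := {g | ∃ a s, ∃ hs : HeisCond q a s, g = rad hF a s hs}
  one_mem' := ⟨0, 0, (heis_zero_iff hF 0).2 (by simp [zero_pow (show q ≠ 0 by have := two_le_q hF; omega)]),
    (rad_zero hF _).symm⟩
  mul_mem' := by
    rintro _ _ ⟨a, s, hs, rfl⟩ ⟨b, t, ht, rfl⟩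
    exact ⟨_, _, heis_mul hF hs ht, rad_mul hF hs ht _⟩
  inv_mem' := by
    rintro _ ⟨a, s, hs, rfl⟩
    have hneg : ∀ b : Fin k → F, Cfsg.hermForm k F q (-b) a = -Cfsg.hermForm k F q b a := fun b => by
      rw [← neg_one_smul F b, herm_smul_left, neg_one_mul]
    have hneg2 : Cfsg.hermForm k F q (-a) (-a) = Cfsg.hermForm k F q a a := by
      rw [← neg_one_smul F a, herm_smul_left, herm_smul_right hF, ← frobQ_apply hF (-1), map_neg, map_one]
      ring
    have hs' : HeisCond q (-a) (s ^ q) := by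
      unfold HeisCond at *
      rw [hneg2, pow_q_q hF]
      linear_combination hs
    refine ⟨-a, s ^ q, hs', inv_eq_of_mul_eq_one_right ?_⟩
    rw [rad_mul hF hs hs' (heis_mul hF hs hs')]
    have e2 : s + s ^ q - Cfsg.hermForm k F q (-a) a = 0 := by
      rw [hneg]
      unfold HeisCond at hs
      linear_combination hs
    rw [rad_congr hF (add_neg_cancel a) e2]
    exact rad_zero hF _

theorem rad_mem_Qs {a : Fin k → F} {s : F} (hs : HeisCond q a s) : rad hF a s hs ∈ Qs hF :=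
  ⟨a, s, hs, rfl⟩

theorem vc_mul {g g' : G k F q} (hg : g ∈ Qs hF) (hg' : g' ∈ Qs hF) :
    vc hF (g * g') = vc hF g + vc hF g' := by
  obtain ⟨a, s, hs, rfl⟩ := hg
  obtain ⟨b, t, ht, rfl⟩ := hg'
  rw [rad_mul hF hs ht (heis_mul hF hs ht), vc_rad, vc_rad, vc_rad]

theorem vc_inv {g : G k F q} (hg : g ∈ Qs hF) : vc hF g⁻¹ = -vc hF g := by
  have h := vc_mul hF hg (inv_mem hg)
  have h1 : vc (k := k) hF (1 : G k F q) = 0 := by rw [vc, suMat_one, Matrix.one_mulVec, proj_fv hF]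
  rw [mul_inv_cancel, h1] at h
  exact eq_neg_of_add_eq_zero_right h.symm

theorem Qs_vc_zero {g : G k F q} (hg : g ∈ Qs hF) (h0 : vc hF g = 0) :
    ∃ z : Skew hF, g = zE (k := k) hF z := by
  obtain ⟨a, s, hs, rfl⟩ := hg
  rw [vc_rad] at h0
  subst h0
  exact ⟨⟨s, (heis_zero_iff hF s).1 hs⟩, rfl⟩

theorem Qs_eq {g : G k F q} (hg : g ∈ Qs hF) : ∃ z, g = zE hF z * vE hF (vc hF g) := by
  obtain ⟨a, s, hs, rfl⟩ := hg
  rw [vc_rad]
  exact rad_eq hF hs

theorem vE_mem (a : Fin k → F) : vE hF a ∈ Qs hF := rad_mem_Qs hF _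

theorem zE_mem (z : Skew hF) : zE (k := k) hF z ∈ Qs hF := rad_mem_Qs hF _

theorem vc_vE (a : Fin k → F) : vc hF (vE hF a) = a := vc_rad hF _

theorem zE_comm_Qs (z : Skew hF) {g : G k F q} (hg : g ∈ Qs hF) : zE hF z * g = g * zE hF z := by
  obtain ⟨z', e⟩ := Qs_eq hF hg
  rw [e, ← mul_assoc, ← zE_add, add_comm z z', zE_add, mul_assoc, mul_assoc, zE_comm_vE hF z]

theorem levi_conj (l : Cfsg.SU k F q) {g : G k F q} (hg : g ∈ Qs hF) :
    levi l * g * (levi l)⁻¹ ∈ Qs hF ∧ vc hF (levi l * g * (levi l)⁻¹) = suMat l *ᵥ vc hF g := by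
  obtain ⟨a, s, hs, rfl⟩ := hg
  have hs' : HeisCond q (suMat l *ᵥ a) s := by
    unfold HeisCond at *
    rwa [su_preserves]
  rw [levi_rad hF l hs hs', vc_rad, vc_rad]
  exact ⟨rad_mem_Qs hF _, rfl⟩

/-- Conjugation by an element which is scalar on the plane and on its complement. -/
theorem scalar_rad {g : G k F q} {lam c : F} (he : suMat g *ᵥ ev hF = lam • ev hF)
    (hW : ∀ a, suMat g *ᵥ emb a = c • emb a) (hlam : lam ^ q * lam = 1) {a : Fin k → F} {s : F}
    (hs : HeisCond q a s) (hs' : HeisCond q ((lam ^ q * c) • a) s) :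
    g * rad hF a s hs * g⁻¹ = rad hF ((lam ^ q * c) • a) s hs' := by
  rw [mul_inv_eq_iff_eq_mul]
  refine su_ext fun y => ?_
  have h1 := su_preserves g y (ev hF)
  rw [he, herm_smul_right hF] at h1
  have h2 := su_preserves g y (emb a)
  rw [hW, herm_smul_right hF] at h2
  simp only [suMat_mul, ← Matrix.mulVec_mulVec, rad_apply hF, Matrix.mulVec_add, Matrix.mulVec_smul, he, hW,
    map_smul, herm_smul_right hF, mul_pow, pow_q_q hF]
  generalize suMat g *ᵥ y = gy at h1 h2 ⊢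
  rw [← h1, ← h2]
  generalize Cfsg.hermForm (k + 1 + 1) F q gy (ev hF) = X
  generalize Cfsg.hermForm (k + 1 + 1) F q gy (emb a) = Y
  have hXe : lam ^ q * X * c = lam ^ q * c * X := by ring
  rw [smul_smul, smul_smul, smul_smul, hXe, mul_comm X]
  congr 2
  linear_combination (s * X) * hlam

theorem card_Qs : Nat.card (Qs (k := k) hF) = q ^ (2 * k + 1) := by
  let f : (Fin k → F) × Skew hF → Qs (k := k) hF := fun p =>
    ⟨zE hF p.2 * vE hF p.1, mul_mem (zE_mem hF p.2) (vE_mem hF p.1)⟩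
  have hf : Function.Bijective f := by
    constructor
    · rintro ⟨a, z⟩ ⟨b, w⟩ h
      have h' : zE hF z * vE hF a = zE hF w * vE hF b := congrArg Subtype.val h
      have h2 := congrArg (vc hF) h'
      rw [vc_mul hF (zE_mem hF z) (vE_mem hF a), vc_mul hF (zE_mem hF w) (vE_mem hF b), zE, zE, vc_rad,
        vc_rad, zero_add, zero_add, vc_vE, vc_vE] at h2
      subst h2
      exact Prod.ext rfl (zE_injective hF (mul_right_cancel h'))
    · rintro ⟨g, hg⟩
      obtain ⟨z, e⟩ := Qs_eq hF hg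
      exact ⟨(_, z), Subtype.ext e.symm⟩
  rw [← Nat.card_congr (Equiv.ofBijective f hf), Nat.card_prod, Nat.card_fun, Nat.card_fin, hF,
    (card_fix_skew hF).2]
  ring

/-- The radical with its complement. -/
noncomputable def QL : Subgroup (G k F q) := (levi (F := F) (q := q) (k := k)).range ⊔ Qs hF

theorem levi_le_normalizer :
    (levi (F := F) (q := q) (k := k)).range ≤ Subgroup.normalizer (Qs (k := k) hF : Set (G k F q)) := by
  rintro _ ⟨l, rfl⟩
  rw [Subgroup.mem_normalizer_iff]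
  refine fun x => ⟨fun hx => (levi_conj hF l hx).1, fun hx => ?_⟩
  have h := (levi_conj hF l⁻¹ hx).1
  rwa [map_inv, inv_inv, show (levi l)⁻¹ * (levi l * x * (levi l)⁻¹) * levi l = x by group] at h

theorem QL_mem {g : G k F q} (hg : g ∈ QL hF) : ∃ l, ∃ x ∈ Qs hF, g = x * levi l := by
  have h' : g ∈ ((levi (F := F) (q := q) (k := k)).range : Set (G k F q)) * (Qs (k := k) hF : Set (G k F q)) := by
    rw [← Subgroup.coe_mul_of_left_le_normalizer_right _ _ (levi_le_normalizer hF)]; exact hg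
  obtain ⟨_, ⟨l, rfl⟩, x, hx, rfl⟩ := Set.mem_mul.1 h'
  exact ⟨l, levi l * x * (levi l)⁻¹, (levi_conj hF l hx).1, by group⟩

theorem levi_Qs_trivial {l : Cfsg.SU k F q} (h : levi l ∈ Qs (k := k) hF) : l = 1 := by
  obtain ⟨z, e⟩ := Qs_eq hF h
  have hz : vc hF (levi (F := F) (q := q) l) = 0 := by rw [vc, levi_fix l (proj_fv hF), proj_fv hF]
  obtain ⟨z, e⟩ := Qs_vc_zero hF h hz
  refine su_ext fun a => emb_injective ?_
  rw [← levi_emb, e, zE_apply hF, herm_emb_ev hF, mul_zero, zero_smul, add_zero, suMat_one, Matrix.one_mulVec]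

theorem card_QL : Nat.card (QL (k := k) hF) = q ^ (2 * k + 1) * Nat.card (Cfsg.SU k F q) := by
  let f : Qs (k := k) hF × Cfsg.SU k F q → QL (k := k) hF := fun p =>
    ⟨(p.1 : G k F q) * levi p.2, mul_mem (le_sup_right (a := (levi (F := F) (q := q) (k := k)).range) p.1.2)
      (le_sup_left (b := Qs (k := k) hF) ⟨p.2, rfl⟩)⟩
  have hf : Function.Bijective f := by
    constructor
    · rintro ⟨x, l⟩ ⟨x', l'⟩ h
      have h' : (x : G k F q) * levi l = (x' : G k F q) * levi l' := congrArg Subtype.val h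
      have hl : levi (l * l'⁻¹) ∈ Qs (k := k) hF := by
        rw [map_mul, map_inv, show levi l * (levi l')⁻¹ = (x : G k F q)⁻¹ * x' from
          mul_inv_eq_iff_eq_mul.2 (by rw [mul_assoc, ← h', inv_mul_cancel_left])]
        exact mul_mem (inv_mem x.2) x'.2
      have e := mul_inv_eq_one.1 (levi_Qs_trivial hF hl)
      subst e
      exact Prod.ext (Subtype.ext (mul_right_cancel h')) rfl
    · rintro ⟨g, hg⟩
      obtain ⟨l, x, hx, rfl⟩ := QL_mem hF hg
      exact ⟨(⟨x, hx⟩, l), rfl⟩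
  rw [← Nat.card_congr (Equiv.ofBijective f hf), Nat.card_prod, card_Qs]

theorem index_QL (hk : 1 ≤ k) :
    (QL (k := k) hF).index = (if Even k then q ^ (k + 1) + 1 else q ^ (k + 1) - 1) *
      (if Even (k + 1) then q ^ (k + 1 + 1) + 1 else q ^ (k + 1 + 1) - 1) := by
  have h := (QL (k := k) hF).card_mul_index
  rw [card_QL] at h
  have h1 := card_SU_mul hF (n := k + 1 + 1) (by omega)
  have h2 := card_SU_mul hF (n := k) hk
  rw [← h, card_GU hF, Finset.prod_range_succ, Finset.prod_range_succ] at h1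
  rw [card_GU hF] at h2
  have e : (k + 1 + 1) * (k + 1 + 1 - 1) / 2 = k * (k - 1) / 2 + (2 * k + 1) := by
    rw [← Nat.choose_two_right, ← Nat.choose_two_right]
    simp [Nat.choose_succ_succ, Nat.choose_one_right]
    ring
  rw [e] at h1
  have hpos : 0 < (q + 1) * (q ^ (2 * k + 1) * Nat.card (Cfsg.SU k F q)) :=
    Nat.mul_pos (by omega) (Nat.mul_pos (pow_pos (by have := two_le_q hF; omega) _) Nat.card_pos)
  refine Nat.eq_of_mul_eq_mul_left hpos ?_
  calc (q + 1) * (q ^ (2 * k + 1) * Nat.card (Cfsg.SU k F q)) * (QL (k := k) hF).index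
      = (q + 1) * (q ^ (2 * k + 1) * Nat.card (Cfsg.SU k F q) * (QL (k := k) hF).index) := by ring
    _ = _ := h1
    _ = _ := by
      rw [pow_add, show (q + 1) * (q ^ (2 * k + 1) * Nat.card (Cfsg.SU k F q)) =
        q ^ (2 * k + 1) * ((q + 1) * Nat.card (Cfsg.SU k F q)) by ring, h2]
      ring

theorem not_dvd_index_QL (hk : 1 ≤ k) {p : ℕ} (hp : p.Prime) (hpq : p ∣ q) :
    ¬ p ∣ (QL (k := k) hF).index := by
  have hq := two_le_q hF
  have key : ∀ i : ℕ, ∀ P : Prop, ∀ [Decidable P],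
      ¬ p ∣ if P then q ^ (i + 1) + 1 else q ^ (i + 1) - 1 := by
    intro i P _ h
    have hd : p ∣ q ^ (i + 1) := dvd_pow hpq (by omega)
    split_ifs at h
    · exact hp.not_dvd_one ((Nat.dvd_add_right hd).1 h)
    · have h1 : 1 ≤ q ^ (i + 1) := Nat.one_le_pow _ _ (by omega)
      have h2 := Nat.dvd_sub hd h
      rw [show q ^ (i + 1) - (q ^ (i + 1) - 1) = 1 by omega] at h2
      exact hp.not_dvd_one h2
  rw [index_QL hF hk, hp.dvd_mul, not_or]
  exact ⟨key k _, key (k + 1) _⟩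

set_option maxHeartbeats 1000000 in
/-- **The local criterion on the radical with its complement.** -/
theorem loc_QL (hk : 3 ≤ k) (hq : q.Prime) (hL : NoStem (Cfsg.SU k F q) q)
    {t : G k F q} {lam c : F} (ht : suMat t *ᵥ ev hF = lam • ev hF)
    (htW : ∀ a, suMat t *ᵥ emb a = c • emb a) (hlam : lam ^ q * lam = 1)
    (hc1 : c * c ^ q = 1) (hw : lam ^ q * c ≠ 1)
    (htl : ∀ l : Cfsg.SU k F q, t * levi l = levi l * t)
    (hperm : ∀ i : Fin k, ∃ l : Cfsg.SU k F q, ∃ m : ℕ, ¬ q ∣ m ∧ l ^ m = 1 ∧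
      suMat l *ᵥ Pi.single ⟨0, by omega⟩ (1 : F) = Pi.single i 1) :
    Loc (QL (k := k) hF) q := by
  classical
  intro Γ _ _ σ hsur hc hcard z₀ hz₀ hzm
  haveI := Fact.mk hq
  haveI := Fintype.ofFinite F
  have hk0 : ∀ x, σ x = 1 → x ^ q = 1 := fun x hx => by
    have := pow_card_eq_one' (x := (⟨x, hx⟩ : σ.ker))
    rw [hcard] at this
    exact congrArg Subtype.val this
  set Qt := (Qs (k := k) hF).comap σ with hQt
  have hQmem : ∀ {x}, x ∈ Qt ↔ σ x ∈ Qs hF := Iff.rfl
  obtain ⟨l, hl⟩ : ∃ l : (Fin k → F) → Γ, ∀ a, σ (l a) = vE hF a :=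
    ⟨fun a => Function.surjInv hsur _, fun a => Function.surjInv_eq hsur _⟩
  have hlQ : ∀ a, l a ∈ Qt := fun a => by rw [hQmem, hl]; exact vE_mem hF a
  obtain ⟨tt, htt⟩ := hsur t
  set w₁ := lam ^ q * c with hw₁
  have hconjt : ∀ x ∈ Qt, tt * x * tt⁻¹ ∈ Qt ∧ vc hF (σ (tt * x * tt⁻¹)) = w₁ • vc hF (σ x) := by
    intro x hx
    obtain ⟨a, s, hs, e⟩ := hQmem.1 hx
    have hs' : HeisCond q (w₁ • a) s := by
      unfold HeisCond at *
      rw [herm_smul_left, herm_smul_right hF, hw₁, mul_pow, pow_q_q hF]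
      linear_combination hs + (Cfsg.hermForm k F q a a * (c * c ^ q)) * hlam +
        Cfsg.hermForm k F q a a * hc1
    rw [hQmem, map_mul, map_mul, map_inv, htt, e, scalar_rad hF ht htW hlam hs hs', vc_rad, vc_rad]
    exact ⟨rad_mem_Qs hF _, rfl⟩
  have htz : ∀ z, t * zE (k := k) hF z * t⁻¹ = zE hF z := fun z =>
    conj_zE hF ht z z (by rw [mul_comm lam, hlam, mul_one])
  have hvz : ∀ b : F, ∃ z : Skew hF, (z : F) = b ^ q - b ∧
      ⁅vE hF (Pi.single (⟨0, by omega⟩ : Fin k) (1 : F)), vE hF (Pi.single ⟨0, by omega⟩ b)⁆ =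
        zE (k := k) hF z := fun b => by
    obtain ⟨z, hz, ez⟩ := vE_comm hF (Pi.single (⟨0, by omega⟩ : Fin k) (1 : F)) (Pi.single ⟨0, by omega⟩ b)
    refine ⟨z, ?_, ?_⟩
    · rw [hz, herm_single_single, herm_single_single]
      simp
    · rw [commutatorElement_def, mul_inv_eq_iff_eq_mul, mul_inv_eq_iff_eq_mul, mul_assoc]
      exact ez
  have hsurjz : ∀ z : Skew hF, ∃ b : F, b ^ q - b = (z : F) := by
    let f : F →+ Skew hF :=
      { toFun := fun b => ⟨b ^ q - b, by
          change _ + _ ^ q = (0 : F)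
          rw [← frobQ_apply hF (b ^ q - b), map_sub, frobQ_apply, frobQ_apply, pow_q_q hF]
          ring⟩
        map_zero' := Subtype.ext (by simp [zero_pow hq.ne_zero])
        map_add' := fun a b => Subtype.ext (by
          simp only [AddSubgroup.coe_add, add_pow_q hF]
          ring) }
    have hker : f.ker ≤ Fix hF := fun b hb =>
      sub_eq_zero.1 (congrArg Subtype.val (AddMonoidHom.mem_ker.1 hb))
    have hf : f.range = ⊤ := by
      refine AddSubgroup.eq_top_of_le_card _ ?_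
      have h1 := f.ker.card_mul_index
      rw [AddSubgroup.index_ker, hF] at h1
      have h2 : Nat.card f.ker ≤ q :=
        (Nat.card_le_card_of_injective _ (Set.inclusion_injective hker)).trans_eq (card_fix_skew hF).1
      rw [(card_fix_skew hF).2]
      refine Nat.le_of_mul_le_mul_left ?_ hq.pos
      rw [← pow_two, ← h1]
      exact Nat.mul_le_mul_right _ h2
    intro z
    obtain ⟨b, hb⟩ := hf.ge (AddSubgroup.mem_top z)
    exact ⟨b, congrArg Subtype.val hb⟩
  -- the centre commutes with the preimage of the radical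
  have hcen : ∀ (z : Skew hF) (x : Γ), σ x = zE (k := k) hF z → ∀ r ∈ Qt, Commute x r := by
    intro z x hxz
    have hcom : ∀ r ∈ Qt, σ x * σ r = σ r * σ x := fun r hr => by rw [hxz]; exact zE_comm_Qs hF z hr
    let ψ : Qt →* Subgroup.center Γ :=
      { toFun := fun r => ⟨⁅x, (r : Γ)⁆, hc (comm_mem_ker hc (hcom r r.2))⟩
        map_one' := Subtype.ext (by simp [commutatorElement_def])
        map_mul' := fun a b => Subtype.ext (comm_mul_right hc (hcom b b.2)) }
    have hab : ∀ a b : Qt, ψ ⁅a, b⁆ = 1 := fun a b => by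
      rw [map_commutatorElement, commutatorElement_eq_one_iff_mul_comm]
      exact Subtype.ext (Subgroup.mem_center_iff.1 (ψ b).2 _)
    intro r hr
    set s := l ((w₁ - 1)⁻¹ • vc hF (σ r)) with hs
    have hsQ : s ∈ Qt := hlQ _
    set d := s⁻¹ * (tt * s * tt⁻¹) with hd
    have hdQ : d ∈ Qt := mul_mem (inv_mem hsQ) (hconjt s hsQ).1
    have h1 : ⁅x, d⁆ = 1 := by
      have e : ψ ⟨d, hdQ⟩ = (ψ ⟨s, hsQ⟩)⁻¹ * ψ ⟨_, (hconjt s hsQ).1⟩ := by
        rw [← map_inv, ← map_mul]; rfl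
      have e2 : ψ ⟨_, (hconjt s hsQ).1⟩ = ψ ⟨s, hsQ⟩ := Subtype.ext (by
        show ⁅x, tt * s * tt⁻¹⁆ = ⁅x, s⁆
        rw [← comm_conj hc (hcom s hsQ) tt]
        refine comm_congr hc ?_ rfl
        rw [map_mul, map_mul, map_inv, htt, hxz, htz])
      rw [e2, inv_mul_cancel] at e
      exact congrArg Subtype.val e
    have hvd : vc hF (σ d) = vc hF (σ r) := by
      rw [hd, map_mul, map_inv, vc_mul hF (inv_mem hsQ) (hconjt s hsQ).1, vc_inv hF hsQ,
        (hconjt s hsQ).2, hs, hl, vc_vE, smul_smul, ← neg_smul, ← add_smul,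
        show -(w₁ - 1)⁻¹ + w₁ * (w₁ - 1)⁻¹ = (w₁ - 1) * (w₁ - 1)⁻¹ by ring,
        mul_inv_cancel₀ (sub_ne_zero.2 hw), one_smul]
    have he : d⁻¹ * r ∈ Qt := mul_mem (inv_mem hdQ) hr
    obtain ⟨z', hz'⟩ := Qs_vc_zero hF he (by
      rw [map_mul, map_inv, vc_mul hF (inv_mem hdQ) hr, vc_inv hF hdQ, hvd, neg_add_cancel])
    obtain ⟨b, hb⟩ := hsurjz z'
    obtain ⟨z'', hz'', ez⟩ := hvz b
    obtain rfl : z'' = z' := Subtype.ext (hz''.trans hb)
    have h2 : ⁅x, d⁻¹ * r⁆ = 1 := by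
      rw [comm_congr hc rfl (show σ (d⁻¹ * r) =
        σ ⁅l (Pi.single (⟨0, by omega⟩ : Fin k) (1 : F)), l (Pi.single ⟨0, by omega⟩ b)⁆ by
          rw [map_commutatorElement, hl, hl, ez, hz'])]
      exact congrArg Subtype.val (hab ⟨_, hlQ _⟩ ⟨_, hlQ _⟩)
    have := comm_mul_right hc (a := x) (b := d) (b' := d⁻¹ * r) (hcom _ he)
    rw [h1, h2, mul_one, mul_inv_cancel_left] at this
    exact commutatorElement_eq_one_iff_mul_comm.1 this
  -- the pairing
  set β : (Fin k → F) → (Fin k → F) → Γ := fun a b => ⁅l a, l b⁆ with hβ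
  have hσβ : ∀ a b, ∃ z : Skew hF, (z : F) = Cfsg.hermForm k F q a b - Cfsg.hermForm k F q b a ∧
      σ (β a b) = zE (k := k) hF z := fun a b => by
    obtain ⟨z, hz, ez⟩ := vE_comm hF a b
    refine ⟨z, hz, ?_⟩
    show σ ⁅l a, l b⁆ = _
    rw [map_commutatorElement, hl, hl, commutatorElement_def, mul_inv_eq_iff_eq_mul,
      mul_inv_eq_iff_eq_mul, mul_assoc]
    exact ez
  have hmain : ∀ x ∈ Qt, ∀ y ∈ Qt, ⁅x, y⁆ = β (vc hF (σ x)) (vc hF (σ y)) := by
    have key : ∀ x ∈ Qt, ∀ y, y ∈ Qt → ⁅x, y⁆ = ⁅l (vc hF (σ x)), y⁆ := by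
      intro x hx y hy
      set a := l (vc hF (σ x)) with ha
      have hac : a⁻¹ * x ∈ Qt := mul_mem (inv_mem (hlQ _)) hx
      obtain ⟨z, hz⟩ := Qs_vc_zero hF hac (by
        rw [map_mul, map_inv, vc_mul hF (inv_mem (hlQ _)) hx, vc_inv hF (hlQ _), hl, vc_vE,
          neg_add_cancel])
      calc ⁅x, y⁆ = a * ((a⁻¹ * x) * y) * x⁻¹ * y⁻¹ := by rw [commutatorElement_def]; group
        _ = a * (y * (a⁻¹ * x)) * x⁻¹ * y⁻¹ := by rw [(hcen z _ hz y hy).eq]
        _ = _ := by rw [commutatorElement_def]; group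
    intro x hx y hy
    show _ = ⁅_, _⁆
    rw [key x hx y hy, ← _root_.inv_inj, commutatorElement_inv, commutatorElement_inv,
      key y hy _ (hlQ _)]
  have hβc : ∀ a b, ∀ r ∈ Qt, Commute (β a b) r := fun a b => by
    obtain ⟨z, -, hz⟩ := hσβ a b
    exact hcen z _ hz
  have hβl : ∀ a b e, β (a + b) e = β a e * β b e := fun a b e => by
    have h := hmain (l a * l b) (mul_mem (hlQ a) (hlQ b)) (l e) (hlQ e)
    rw [map_mul, hl, hl, hl, vc_mul hF (vE_mem hF a) (vE_mem hF b), vc_vE, vc_vE, vc_vE] at h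
    rw [← h]
    calc ⁅l a * l b, l e⁆ = (l a * ⁅l b, l e⁆) * (l a)⁻¹ * ⁅l a, l e⁆ := by
          rw [commutatorElement_def, commutatorElement_def, commutatorElement_def]; group
      _ = β b e * β a e := by rw [← (hβc b e _ (hlQ a)).eq, mul_inv_cancel_right]
      _ = _ := (hβc b e _ (mul_mem (mul_mem (mul_mem (hlQ a) (hlQ e)) (inv_mem (hlQ a)))
          (inv_mem (hlQ e)))).eq
  have hβr : ∀ a b e, β a (b + e) = β a b * β a e := fun a b e => by
    have hi : ∀ x y, β x y = (β y x)⁻¹ := fun x y => (commutatorElement_inv (l y) (l x)).symm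
    rw [hi a (b + e), hβl, _root_.mul_inv_rev, ← hi, ← hi]
    exact (hβc a e _ (mul_mem (mul_mem (mul_mem (hlQ a) (hlQ b)) (inv_mem (hlQ a)))
      (inv_mem (hlQ b)))).eq
  have hβ0l : ∀ e, β 0 e = 1 := fun e => by simpa using hβl 0 0 e
  have hβ0r : ∀ e, β e 0 = 1 := fun e => by simpa using hβr e 0 0
  -- the complement
  obtain ⟨sl, hsl⟩ : ∃ sl : Cfsg.SU k F q → Γ, ∀ x, σ (sl x) = levi x :=
    ⟨fun x => Function.surjInv hsur _, fun x => Function.surjInv_eq hsur _⟩
  have hconjl : ∀ (x : Γ) (y : Cfsg.SU k F q), σ x = levi y → ∀ a b,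
      x * β a b * x⁻¹ = β (suMat y *ᵥ a) (suMat y *ᵥ b) := by
    intro x y hx a b
    have hm : ∀ v, x * l v * x⁻¹ ∈ Qt ∧ vc hF (σ (x * l v * x⁻¹)) = suMat y *ᵥ v := fun v => by
      rw [hQmem, map_mul, map_mul, map_inv, hx, hl]
      have h := levi_conj hF y (vE_mem hF v)
      rw [vc_vE] at h
      exact h
    show x * ⁅l a, l b⁆ * x⁻¹ = _
    rw [conjugate_commutatorElement, hmain _ (hm a).1 _ (hm b).1, (hm a).2, (hm b).2]
  have hinv : ∀ (y : Cfsg.SU k F q) (m : ℕ), ¬ q ∣ m → y ^ m = 1 → ∀ a b,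
      β (suMat y *ᵥ a) (suMat y *ᵥ b) = β a b := by
    intro y m hm hym a b
    obtain ⟨z, -, hz⟩ := hσβ a b
    set x := sl y
    rw [← hconjl x y (hsl y)]
    have hcm : ∀ i : ℕ, σ (β a b) * σ (x ^ i) = σ (x ^ i) * σ (β a b) := fun i => by
      rw [hz, map_pow, hsl, ← map_pow]
      exact (mul_inv_eq_iff_eq_mul.1 (levi_zE hF (y ^ i) z)).symm
    have hpow : ∀ i : ℕ, ⁅β a b, x ^ i⁆ = ⁅β a b, x⁆ ^ i := by
      intro i
      induction i with
      | zero => simp
      | succ i ih => rw [pow_succ, pow_succ, comm_mul_right hc (by simpa using hcm 1), ih]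
    have h1 : ⁅β a b, x⁆ ^ m = 1 := by
      rw [← hpow, comm_congr hc rfl (show σ (x ^ m) = σ 1 by
        rw [map_pow, hsl, ← map_pow, hym, map_one, map_one]), commutatorElement_one_right]
    have h2 : ⁅β a b, x⁆ ^ q = 1 := hk0 _ (comm_mem_ker hc (by simpa using hcm 1))
    have h3 : ⁅β a b, x⁆ = 1 :=
      (pow_eq_one_iff_of_coprime (hq.coprime_iff_not_dvd.2 hm).symm).1 ⟨h1, h2⟩
    rw [← commutatorElement_eq_one_iff_mul_comm.1 h3, mul_inv_cancel_right]
  obtain ⟨lam', hlam', hgen'⟩ := exists_norm_one_generator hF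
  have hlam'1 : lam' ≠ 1 := fun e => by
    have := Nat.le_of_dvd one_pos ((hgen' 1).1 (by rw [e, pow_one]))
    have := hq.two_le
    omega
  have hlam'0 : lam' ≠ 0 := fun e => by rw [e, zero_mul] at hlam'; exact zero_ne_one hlam'
  have hlamq : lam' ^ (q + 1) = 1 := (hgen' _).2 dvd_rfl
  have hqq1 : ¬ q ∣ q + 1 := fun h => hq.not_dvd_one ((Nat.dvd_add_right dvd_rfl).1 h)
  have hcross : ∀ i j : Fin k, i ≠ j → ∀ x y : F, β (Pi.single i x) (Pi.single j y) = 1 := by
    intro i j hij x y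
    obtain ⟨e, hei, hej⟩ : ∃ e : Fin k, e ≠ i ∧ e ≠ j := by
      by_contra h
      push Not at h
      have : (Finset.univ : Finset (Fin k)) ⊆ {i, j} := fun e _ => by
        by_cases he : e = i
        · simp [he]
        · simp [h e he]
      have h1 := (Finset.card_le_card this).trans Finset.card_le_two
      simp at h1
      omega
    let d : Fin k → F := fun m => if m = i then lam' else if m = e then lam'⁻¹ else 1
    have hd1 : ∀ m, d m * d m ^ q = 1 := fun m => by
      simp only [d]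
      split_ifs
      · exact hlam'
      · rw [inv_pow, ← _root_.mul_inv_rev, mul_comm, hlam', inv_one]
      · simp
    have hd2 : ∏ m, d m = 1 := by
      have e' : ∀ m, d m = (if m = i then lam' else 1) * (if m = e then lam'⁻¹ else 1) := fun m => by
        simp only [d]
        split_ifs with h h'
        · exact absurd (h'.symm.trans h) hei
        all_goals simp
      rw [Finset.prod_congr rfl fun m _ => e' m, Finset.prod_mul_distrib]
      simp [hlam'0]
    have hdp : diagSU d hd1 hd2 ^ (q + 1) = 1 := by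
      have hp : ∀ (n : ℕ) (v : Fin k → F) (m : Fin k),
          (suMat (diagSU d hd1 hd2 ^ n) *ᵥ v) m = d m ^ n * v m := by
        intro n
        induction n with
        | zero => intro v m; rw [pow_zero, suMat_one, Matrix.one_mulVec, pow_zero, one_mul]
        | succ n ih =>
          intro v m
          rw [pow_succ', suMat_mul, ← Matrix.mulVec_mulVec, diagSU_apply, ih, pow_succ', mul_assoc]
      refine su_ext fun v => funext fun m => ?_
      rw [hp, suMat_one, Matrix.one_mulVec]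
      simp only [d]
      split_ifs <;> simp [hlamq]
    have hdi : suMat (diagSU d hd1 hd2) *ᵥ Pi.single i x = Pi.single i (lam' * x) := funext fun m => by
      rw [diagSU_apply]
      by_cases hm : m = i
      · subst hm; simp [d]
      · simp [hm]
    have hdj : suMat (diagSU d hd1 hd2) *ᵥ Pi.single j y = Pi.single j y := funext fun m => by
      rw [diagSU_apply]
      by_cases hm : m = j
      · subst hm; simp [d, Ne.symm hij, Ne.symm hej]
      · simp [hm]
    have key : ∀ x, β (Pi.single i (lam' * x)) (Pi.single j y) = β (Pi.single i x) (Pi.single j y) := by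
      intro x
      have h := hinv _ _ hqq1 hdp (Pi.single i x) (Pi.single j y)
      have hdi' : suMat (diagSU d hd1 hd2) *ᵥ Pi.single i x = Pi.single i (lam' * x) := funext fun m => by
        rw [diagSU_apply]
        by_cases hm : m = i
        · subst hm; simp [d]
        · simp [hm]
      rwa [hdi', hdj] at h
    have h := key (x / (lam' - 1))
    have e' : lam' * (x / (lam' - 1)) = x / (lam' - 1) + x := by
      have := sub_ne_zero.2 hlam'1
      field_simp
      ring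
    rw [e', Pi.single_add, hβl] at h
    exact mul_eq_left.1 h
  obtain ⟨θ, hθ⟩ : ∃ θ : F, θ ^ q ≠ θ := by
    by_contra h
    push Not at h
    have h1 : Nat.card F ≤ Nat.card (Fix hF) :=
      Nat.card_le_card_of_injective (fun a => (⟨a, h a⟩ : Fix hF)) fun a b e => congrArg Subtype.val e
    rw [hF, (card_fix_skew hF).1] at h1
    nlinarith [hq.two_le]
  set i0 : Fin k := ⟨0, by omega⟩
  set g := β (Pi.single i0 1) (Pi.single i0 θ) with hg
  obtain ⟨zg, hzg, hσg⟩ := hσβ (Pi.single i0 1) (Pi.single i0 θ)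
  have hgc := hβc (Pi.single i0 1) (Pi.single i0 θ)
  have hgq : g ^ q = 1 := by
    have hnat : ∀ n : ℕ, g ^ n = β (n • Pi.single i0 1) (Pi.single i0 θ) := by
      intro n
      induction n with
      | zero => rw [pow_zero, zero_smul, hβ0l]
      | succ n ih => rw [pow_succ, ih, succ_nsmul, hβl]
    obtain ⟨p, j, hcp, hp, -, hqp⟩ := exists_char hF
    haveI := hcp
    haveI := Fact.mk hp
    have hqF : (q : F) = 0 := by
      rw [hqp, Nat.cast_pow, CharP.cast_eq_zero, zero_pow]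
      intro e
      rw [e, pow_zero] at hqp
      exact hq.ne_one hqp
    rw [hnat, show q • (Pi.single i0 1 : Fin k → F) = 0 from funext fun m => by simp [hqF], hβ0l]
  have hzg0 : zg ≠ 0 := fun e => by
    rw [e, herm_single_single, herm_single_single] at hzg
    simp [i0] at hzg
    exact hθ (sub_eq_zero.1 hzg.symm)
  have hgker : ∀ i : ℤ, σ (g ^ i) = 1 → g ^ i = 1 := by
    intro i hi
    have hσne : σ g ≠ 1 := fun e => hzg0 (zE_injective hF (hσg.symm.trans (e.trans (zE_zero hF).symm)))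
    have ho : orderOf (σ g) = q :=
      orderOf_eq_prime (by rw [← map_pow, hgq, map_one]) hσne
    rw [map_zpow, ← orderOf_dvd_iff_zpow_eq_one, ho] at hi
    obtain ⟨j, rfl⟩ := hi
    rw [_root_.zpow_mul, zpow_natCast, hgq, _root_.one_zpow]
  have hbasis : ∀ x : F, ∃ a b : ℕ, x = (a : F) + (b : F) * θ := by
    obtain ⟨p, j, hcp, hp, hj, hqp⟩ := exists_char hF
    haveI := hcp
    obtain rfl : p = q := ((Nat.prime_dvd_prime_iff_eq hp hq).1 (hqp ▸ dvd_pow_self p hj.ne'))
    let f : Fin p × Fin p → F := fun x => ((x.1 : ℕ) : F) + ((x.2 : ℕ) : F) * θ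
    have hfix : ∀ n : ℕ, (n : F) ^ p = n := fun n => by rw [← frobQ_apply hF (n : F), map_natCast]
    have hinj : Function.Injective f := by
      rintro ⟨a, b⟩ ⟨a', b'⟩ e
      simp only [f] at e
      have h1 := congrArg (fun x => x ^ p) e
      simp only [add_pow_q hF, mul_pow, hfix] at h1
      have hb : ((b : ℕ) : F) = ((b' : ℕ) : F) := by
        have : (((b : ℕ) : F) - ((b' : ℕ) : F)) * (θ ^ p - θ) = 0 := by linear_combination h1 - e
        exact sub_eq_zero.1 ((mul_eq_zero.1 this).resolve_right (sub_ne_zero.2 hθ))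
      have ha : ((a : ℕ) : F) = ((a' : ℕ) : F) := by linear_combination e - θ * hb
      exact Prod.ext (Fin.ext (CharP.natCast_injOn_Iio F p a.2 a'.2 ha))
        (Fin.ext (CharP.natCast_injOn_Iio F p b.2 b'.2 hb))
    have hbij := (Nat.bijective_iff_injective_and_card f).2 ⟨hinj, by
      rw [Nat.card_prod, Nat.card_fin, hF, pow_two]⟩
    intro x
    obtain ⟨⟨a, b⟩, e⟩ := hbij.2 x
    exact ⟨a, b, e.symm⟩
  have hdiag : ∀ i x y, β (Pi.single i x) (Pi.single i y) ∈ Subgroup.zpowers g := by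
    intro i x y
    obtain ⟨lp, m, hm, hlm, hl1⟩ := hperm i
    have hscal : ∀ v : F, suMat lp *ᵥ Pi.single i0 v = Pi.single i v := fun v => by
      have : (Pi.single i0 v : Fin k → F) = v • Pi.single i0 1 := by rw [← Pi.single_smul]; simp
      rw [this, Matrix.mulVec_smul, hl1, ← Pi.single_smul]
      simp
    rw [← hscal x, ← hscal y, hinv lp m hm hlm]
    have hnl : ∀ (n : ℕ) (a b : Fin k → F), β (n • a) b = β a b ^ n := by
      intro n a b
      induction n with
      | zero => rw [zero_smul, pow_zero, hβ0l]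
      | succ n ih => rw [succ_nsmul, hβl, ih, pow_succ]
    have hnr : ∀ (n : ℕ) (a b : Fin k → F), β a (n • b) = β a b ^ n := by
      intro n a b
      induction n with
      | zero => rw [zero_smul, pow_zero, hβ0r]
      | succ n ih => rw [succ_nsmul, hβr, ih, pow_succ]
    obtain ⟨a, b, rfl⟩ := hbasis x
    obtain ⟨a', b', rfl⟩ := hbasis y
    have es : ∀ (n : ℕ) (v : F), (Pi.single i0 ((n : F) * v) : Fin k → F) = n • Pi.single i0 v := fun n v => by
      rw [← nsmul_eq_mul, Pi.single_smul]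
    have e1 : ∀ n n' : ℕ, (Pi.single i0 ((n : F) + (n' : F) * θ) : Fin k → F) =
        n • Pi.single i0 1 + n' • Pi.single i0 θ := fun n n' => by
      rw [Pi.single_add, es, ← mul_one (n : F), es]
    rw [e1, e1, hβl, hnl, hnl, hβr, hβr, hnr, hnr, hnr, hnr,
      show β (Pi.single i0 θ) (Pi.single i0 1) = g⁻¹ from (commutatorElement_inv _ _).symm,
      show β (Pi.single i0 1) (Pi.single i0 1) = 1 from commutatorElement_self _,
      show β (Pi.single i0 θ) (Pi.single i0 θ) = 1 from commutatorElement_self _, ← hg,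
      one_pow, one_pow, one_mul, mul_one]
    exact mul_mem (pow_mem (pow_mem (Subgroup.mem_zpowers g) _) _)
      (pow_mem (pow_mem (inv_mem (Subgroup.mem_zpowers g)) _) _)
  have hall : ∀ a b, β a b ∈ Subgroup.zpowers g := by
    have h1 : ∀ (i : Fin k) (x : F) b, β (Pi.single i x) b ∈ Subgroup.zpowers g := by
      intro i x b
      rw [← Finset.univ_sum_single b]
      refine Finset.sum_induction _ (fun v => β (Pi.single i x) v ∈ Subgroup.zpowers g)
        (fun u v hu hv => by rw [hβr]; exact mul_mem hu hv) (by rw [hβ0r]; exact one_mem _) ?_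
      intro j _
      by_cases hij : i = j
      · subst hij; exact hdiag i _ _
      · rw [hcross i j hij]; exact one_mem _
    intro a b
    rw [← Finset.univ_sum_single a]
    exact Finset.sum_induction _ (fun v => β v b ∈ Subgroup.zpowers g)
      (fun u v hu hv => by rw [hβl]; exact mul_mem hu hv) (by rw [hβ0l]; exact one_mem _)
      fun i _ => h1 i _ b
  -- the complement of the kernel in the radical
  have hZg : ∀ y ∈ Subgroup.zpowers g, ∀ r ∈ Qt, Commute y r := by
    rintro _ ⟨i, rfl⟩ r hr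
    exact (hgc r hr).zpow_left i
  have hgQ : ∀ y ∈ Subgroup.zpowers g, y ∈ Qt := by
    rintro _ ⟨i, rfl⟩
    refine zpow_mem ?_ i
    rw [hQmem, hσg]
    exact zE_mem hF zg
  have hcomg : ∀ x ∈ Qt, ∀ y ∈ Qt, ⁅x, y⁆ ∈ Subgroup.zpowers g := fun x hx y hy => by
    rw [hmain x hx y hy]; exact hall _ _
  have httQ : ∀ r ∈ Qt, ⁅tt, r⁆ ∈ Qt := fun r hr => mul_mem (hconjt r hr).1 (inv_mem hr)
  have hθmul : ∀ r ∈ Qt, ∀ s ∈ Qt, ∃ y ∈ Subgroup.zpowers g, ⁅tt, r⁆ * ⁅tt, s⁆ = ⁅tt, r * s⁆ * y := by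
    intro r hr s hs
    refine ⟨⁅r, ⁅tt, s⁆⁆⁻¹, inv_mem (hcomg r hr _ (httQ s hs)), ?_⟩
    have hy := hZg _ (inv_mem (hcomg r hr _ (httQ s hs))) _ (httQ s hs)
    rw [commutatorElement_inv] at hy ⊢
    calc ⁅tt, r⁆ * ⁅tt, s⁆ = ⁅tt, r * s⁆ * (r * ⁅tt, s⁆⁻¹ * r⁻¹ * ⁅tt, s⁆) := by
          rw [commutatorElement_def, commutatorElement_def, commutatorElement_def]; group
      _ = ⁅tt, r * s⁆ * ((r * ⁅tt, s⁆⁻¹ * r⁻¹ * ⁅tt, s⁆)) := rfl
      _ = ⁅tt, r * s⁆ * (⁅tt, s⁆⁻¹ * (⁅⁅tt, s⁆, r⁆ * ⁅tt, s⁆)) := by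
          simp only [commutatorElement_def]; group
      _ = _ := by rw [hy.eq, inv_mul_cancel_left]
  let W : Subgroup Γ :=
    { carrier := {y | ∃ r ∈ Qt, ∃ e ∈ Subgroup.zpowers g, y = ⁅tt, r⁆ * e}
      one_mem' := ⟨1, one_mem _, 1, one_mem _, by simp⟩
      mul_mem' := by
        rintro _ _ ⟨r, hr, e, he, rfl⟩ ⟨s, hs, e', he', rfl⟩
        obtain ⟨y, hy, ey⟩ := hθmul r hr s hs
        refine ⟨r * s, mul_mem hr hs, y * e * e', mul_mem (mul_mem hy he) he', ?_⟩
        calc ⁅tt, r⁆ * e * (⁅tt, s⁆ * e') = ⁅tt, r⁆ * (e * ⁅tt, s⁆) * e' := by group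
          _ = ⁅tt, r⁆ * ⁅tt, s⁆ * e * e' := by rw [(hZg e he _ (httQ s hs)).eq]; group
          _ = _ := by rw [ey]; group
      inv_mem' := by
        rintro _ ⟨r, hr, e, he, rfl⟩
        obtain ⟨y, hy, ey⟩ := hθmul r hr r⁻¹ (inv_mem hr)
        rw [mul_inv_cancel, commutatorElement_one_right, one_mul] at ey
        refine ⟨r⁻¹, inv_mem hr, y⁻¹ * e⁻¹, mul_mem (inv_mem hy) (inv_mem he), ?_⟩
        have e' : (⁅tt, r⁆)⁻¹ = ⁅tt, r⁻¹⁆ * y⁻¹ := by
          refine inv_eq_of_mul_eq_one_right ?_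
          rw [← mul_assoc, ey, mul_inv_cancel]
        rw [_root_.mul_inv_rev, (hZg e⁻¹ (inv_mem he) _ (inv_mem (httQ r hr))).eq, e', mul_assoc] }
  have hWg : ∀ y ∈ Subgroup.zpowers g, y ∈ W := fun y hy =>
    ⟨1, one_mem _, y, hy, by rw [commutatorElement_one_right, one_mul]⟩
  have hvg : ∀ i : ℤ, vc hF (σ (g ^ i)) = 0 := by
    intro i
    have h1 : vc hF (σ g) = 0 := by rw [hσg, zE, vc_rad]
    have hgm : ∀ j : ℤ, σ (g ^ j) ∈ Qs hF := fun j => hgQ _ ⟨j, rfl⟩
    have hg1 : σ g ∈ Qs hF := hgQ _ (Subgroup.mem_zpowers g)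
    induction i using Int.induction_on with
    | zero => simp [vc, suMat_one, proj_fv hF]
    | succ i ih =>
      rw [_root_.zpow_add, _root_.zpow_one, map_mul, vc_mul hF (hgm _) hg1, ih, h1, add_zero]
    | pred i ih =>
      rw [_root_.zpow_sub, _root_.zpow_one, map_mul, map_inv, vc_mul hF (hgm _) (inv_mem hg1),
        vc_inv hF hg1, ih, h1, neg_zero, add_zero]
  have hWker : ∀ y ∈ W, σ y = 1 → y = 1 := by
    rintro _ ⟨r, hr, e, he, rfl⟩ h
    have hve : vc hF (σ e) = 0 := by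
      obtain ⟨i, rfl⟩ := he
      exact hvg i
    have h0 : vc hF (σ r) = 0 := by
      have h1 := congrArg (vc hF) h
      rw [map_mul, commutatorElement_def, map_mul, map_inv,
        vc_mul hF (mul_mem (hQmem.1 (hconjt r hr).1) (inv_mem hr)) (hQmem.1 (hgQ e he)),
        vc_mul hF (hQmem.1 (hconjt r hr).1) (inv_mem hr), (hconjt r hr).2, vc_inv hF hr, hve, add_zero,
        show vc (k := k) hF (1 : G k F q) = 0 by simp [vc, suMat_one, proj_fv hF],
        ← sub_eq_add_neg] at h1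
      have h2 : (w₁ - 1) • vc hF (σ r) = 0 := by rw [sub_smul, one_smul]; exact h1
      exact (smul_eq_zero.1 h2).resolve_left (sub_ne_zero.2 hw)
    obtain ⟨z, hz⟩ := Qs_vc_zero hF hr h0
    have hfix : ⁅tt, r⁆ = 1 := by
      have hcm : σ r * σ tt = σ tt * σ r := by rw [hz, htt, ← mul_inv_eq_iff_eq_mul.1 (htz z)]
      obtain ⟨b, hb⟩ := hsurjz z
      obtain ⟨z', hz', ez⟩ := hvz b
      obtain rfl : z' = z := Subtype.ext (hz'.trans hb)
      have e1 : σ r = σ (β (Pi.single (⟨0, by omega⟩ : Fin k) (1 : F)) (Pi.single ⟨0, by omega⟩ b)) := by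
        show _ = σ ⁅_, _⁆
        rw [map_commutatorElement, hl, hl, ez, hz]
      obtain ⟨j, hj⟩ := hall (Pi.single (⟨0, by omega⟩ : Fin k) (1 : F)) (Pi.single ⟨0, by omega⟩ b)
      rw [comm_congr hc rfl e1, ← hj, commutatorElement_eq_one_iff_mul_comm]
      refine (Commute.zpow_right ?_ j).eq
      -- the torus element fixes the generator
      have hm : ∀ v, tt * l v * tt⁻¹ ∈ Qt ∧ vc hF (σ (tt * l v * tt⁻¹)) = w₁ • v := fun v => by
        have h := hconjt (l v) (hlQ v)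
        rw [hl, vc_vE] at h
        exact h
      have hgt : tt * g * tt⁻¹ ∈ Subgroup.zpowers g := by
        show tt * ⁅_, _⁆ * tt⁻¹ ∈ _
        rw [conjugate_commutatorElement]
        exact hcomg _ (hm _).1 _ (hm _).1
      obtain ⟨i, hi⟩ := hgt
      have hσi : σ (g ^ (i - 1)) = 1 := by
        rw [_root_.zpow_sub, _root_.zpow_one, map_mul, map_inv, show g ^ i = tt * g * tt⁻¹ from hi, map_mul,
          map_mul, map_inv, htt, hσg, htz, mul_inv_cancel]
      have h4 := hgker _ hσi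
      rw [_root_.zpow_sub, _root_.zpow_one, show g ^ i = tt * g * tt⁻¹ from hi, mul_inv_eq_one,
        mul_inv_eq_iff_eq_mul] at h4
      exact h4
    rw [hfix, one_mul] at h ⊢
    obtain ⟨i, rfl⟩ := he
    exact hgker i h
  have hWcov : ∀ x ∈ Qt, ∃ y ∈ W, σ y = σ x := by
    intro x hx
    set r := l ((w₁ - 1)⁻¹ • vc hF (σ x)) with hr
    have hrQ : r ∈ Qt := hlQ _
    have hv : vc hF (σ ⁅tt, r⁆) = vc hF (σ x) := by
      rw [commutatorElement_def, map_mul, map_inv,
        vc_mul hF (hQmem.1 (hconjt r hrQ).1) (inv_mem hrQ), (hconjt r hrQ).2, vc_inv hF hrQ, hr, hl,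
        vc_vE, smul_smul, ← neg_smul, ← add_smul,
        show w₁ * (w₁ - 1)⁻¹ + -(w₁ - 1)⁻¹ = (w₁ - 1) * (w₁ - 1)⁻¹ by ring,
        mul_inv_cancel₀ (sub_ne_zero.2 hw), one_smul]
    have he : ⁅tt, r⁆⁻¹ * x ∈ Qt := mul_mem (inv_mem (httQ r hrQ)) hx
    obtain ⟨z, hz⟩ := Qs_vc_zero hF he (by
      rw [map_mul, map_inv, vc_mul hF (inv_mem (hQmem.1 (httQ r hrQ))) hx,
        vc_inv hF (hQmem.1 (httQ r hrQ)), hv, neg_add_cancel])
    obtain ⟨b, hb⟩ := hsurjz z
    obtain ⟨z', hz', ez⟩ := hvz b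
    obtain rfl : z' = z := Subtype.ext (hz'.trans hb)
    refine ⟨⁅tt, r⁆ * β (Pi.single (⟨0, by omega⟩ : Fin k) (1 : F)) (Pi.single ⟨0, by omega⟩ b),
      ⟨r, hrQ, _, hall _ _, rfl⟩, ?_⟩
    rw [map_mul]
    show σ _ * σ ⁅_, _⁆ = _
    rw [map_commutatorElement (f := σ) (g₁ := l _), hl, hl, ez, ← hz, map_mul, map_inv,
      mul_inv_cancel_left]
  have hWQ : ∀ y ∈ W, y ∈ Qt := by
    rintro _ ⟨r, hr, e, he, rfl⟩
    exact mul_mem (httQ r hr) (hgQ e he)
  -- the complement normalises it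
  have hWnorm : ∀ (x : Γ) (y : Cfsg.SU k F q), σ x = levi y → ∀ e ∈ W, x * e * x⁻¹ ∈ W := by
    rintro x y hx _ ⟨r, hr, e, he, rfl⟩
    have hr' : x * r * x⁻¹ ∈ Qt := by
      rw [hQmem, map_mul, map_mul, map_inv, hx]
      exact (levi_conj hF y hr).1
    have he' : x * e * x⁻¹ ∈ Subgroup.zpowers g := by
      obtain ⟨i, rfl⟩ := he
      rw [← conj_zpow]
      refine zpow_mem ?_ i
      rw [hg, hconjl x y hx]
      exact hall _ _
    refine ⟨x * r * x⁻¹, hr', x * e * x⁻¹, he', ?_⟩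
    rw [show x * (⁅tt, r⁆ * e) * x⁻¹ = ⁅x * tt * x⁻¹, x * r * x⁻¹⁆ * (x * e * x⁻¹) by
      rw [← conjugate_commutatorElement]; group]
    congr 1
    refine comm_congr hc ?_ rfl
    rw [map_mul, map_mul, map_inv, hx, htt, ← htl, mul_inv_cancel_right]
  -- conclusion
  set Lt := (levi (F := F) (q := q) (k := k)).range.comap σ with hLt
  have hLker : ∀ e ∈ ⁅Lt, Lt⁆, σ e = 1 → e = 1 := by
    intro e he h1
    by_contra hne
    obtain ⟨w', hw', ew⟩ : ∃ w' ∈ commutator Lt, (w' : Γ) = e := by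
      rw [← Subgroup.map_subtype_commutator] at he
      exact he
    have hinjlevi : Function.Injective (levi (F := F) (q := q) (k := k)) := fun a b e' => by
      refine su_ext fun v => emb_injective ?_
      rw [← levi_emb, ← levi_emb, e']
    let f : Lt →* Cfsg.SU k F q :=
      (MonoidHom.ofInjective hinjlevi).symm.toMonoidHom.comp
        ((σ.comp Lt.subtype).codRestrict _ fun x => x.2)
    have hfk : ∀ x : Lt, x ∈ f.ker ↔ σ (x : Γ) = 1 := fun x => by
      rw [MonoidHom.mem_ker]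
      show (MonoidHom.ofInjective hinjlevi).symm _ = 1 ↔ _
      rw [MulEquiv.map_eq_one_iff, Subtype.ext_iff]
      rfl
    have hkle : ∀ x : Lt, x ∈ f.ker → x ∈ Subgroup.zpowers w' := fun x hx => by
      have hx1 := (hfk x).1 hx
      have hcar : Nat.card (Subgroup.zpowers (⟨e, h1⟩ : σ.ker)) = Nat.card σ.ker := by
        rw [Nat.card_zpowers, hcard]
        exact orderOf_eq_prime (Subtype.ext (by rw [SubgroupClass.coe_pow]; exact hk0 e h1))
          fun e' => hne (congrArg Subtype.val e')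
      obtain ⟨i, hi⟩ := (Subgroup.eq_top_of_card_eq _ hcar).ge (Subgroup.mem_top (⟨x, hx1⟩ : σ.ker))
      refine ⟨i, Subtype.ext ?_⟩
      show ((w' ^ i : Lt) : Γ) = x
      rw [Subgroup.coe_zpow, ew]
      simpa using congrArg Subtype.val hi
    have hst : Cfsg.IsStemExtension f := by
      refine ⟨fun y => ?_, fun x hx => Subgroup.mem_center_iff.2 fun y => Subtype.ext
        (ker_comm hc ((hfk x).1 hx) y), fun x hx => ?_⟩
      · obtain ⟨y', hy'⟩ := hsur (levi y)
        refine ⟨⟨y', ⟨y, hy'.symm⟩⟩, ?_⟩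
        show (MonoidHom.ofInjective hinjlevi).symm _ = y
        rw [MulEquiv.symm_apply_eq]
        exact Subtype.ext hy'
      · obtain ⟨i, hi⟩ := hkle x hx
        rw [← hi]
        exact zpow_mem hw' i
    refine hL Lt f hst ?_
    let kk : f.ker →* σ.ker := (Lt.subtype.comp f.ker.subtype).codRestrict σ.ker fun x => (hfk x.1).1 x.2
    have hkinj : Function.Injective kk := fun a b e' =>
      Subtype.ext (Subtype.ext (congrArg (Subtype.val : σ.ker → Γ) e'))
    rcases (Nat.dvd_prime hq).1 (hcard ▸ Subgroup.card_dvd_of_injective kk hkinj) with h | h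
    · refine absurd ?_ hne
      have := (Nat.card_eq_one_iff_unique.1 h).1
      rw [← ew]
      exact congrArg (fun x : f.ker => ((x : Lt) : Γ))
        (Subsingleton.elim (⟨w', (hfk _).2 (by rw [ew]; exact h1)⟩ : f.ker) 1)
    · exact h
  have hLL : ∀ {e : Γ}, e ∈ ⁅Lt, Lt⁆ → e ∈ Lt := fun {e} he => Subgroup.commutator_le_self Lt he
  let N : Subgroup Γ :=
    { carrier := {y | ∃ w ∈ W, ∃ e ∈ ⁅Lt, Lt⁆, y = w * e}
      one_mem' := ⟨1, one_mem _, 1, one_mem _, (one_mul 1).symm⟩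
      mul_mem' := by
        rintro _ _ ⟨w, hw', e, he, rfl⟩ ⟨w', hw'', e', he', rfl⟩
        have heL : e ∈ Lt := hLL he
        obtain ⟨y, hy⟩ := heL
        refine ⟨w * (e * w' * e⁻¹), mul_mem hw' (hWnorm e y hy.symm w' hw''), e * e', mul_mem he he', ?_⟩
        group
      inv_mem' := by
        rintro _ ⟨w, hw', e, he, rfl⟩
        have heL : e⁻¹ ∈ Lt := inv_mem (hLL he)
        obtain ⟨y, hy⟩ := heL
        refine ⟨e⁻¹ * w⁻¹ * e⁻¹⁻¹, hWnorm _ y hy.symm _ (inv_mem hw'), e⁻¹, inv_mem he, ?_⟩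
        group }
  have hN : ⁅(QL (k := k) hF).comap σ, (QL (k := k) hF).comap σ⁆ ≤ N := by
    rw [Subgroup.commutator_le]
    have hdec : ∀ x ∈ (QL (k := k) hF).comap σ, ∃ w ∈ W, ∃ e ∈ Lt, σ x = σ (w * e) := by
      intro x hx
      obtain ⟨y, a, ha, e⟩ := QL_mem hF hx
      obtain ⟨a', rfl⟩ := hsur a
      obtain ⟨w, hw', ew⟩ := hWcov a' ha
      refine ⟨w, hw', sl y, ⟨y, (hsl y).symm⟩, ?_⟩
      rw [map_mul, ew, hsl, e]
    intro x hx y hy
    obtain ⟨w, hw', e, he, ex⟩ := hdec x hx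
    obtain ⟨w', hw'', e', he', ey⟩ := hdec y hy
    rw [comm_congr hc ex ey]
    obtain ⟨ye, hye⟩ := id he
    obtain ⟨ye', hye'⟩ := id he'
    have h3 : ⁅e, e'⁆ ∈ ⁅Lt, Lt⁆ := Subgroup.commutator_mem_commutator he he'
    obtain ⟨y3, hy3⟩ := hLL h3
    refine ⟨w * (e * w' * e⁻¹) * (⁅e, e'⁆ * (e' * w⁻¹ * e'⁻¹ * w'⁻¹) * ⁅e, e'⁆⁻¹), ?_, _, h3, ?_⟩
    · exact mul_mem (mul_mem hw' (hWnorm e ye hye.symm w' hw''))
        (hWnorm _ y3 hy3.symm _ (mul_mem (hWnorm e' ye' hye'.symm _ (inv_mem hw')) (inv_mem hw'')))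
    · simp only [commutatorElement_def]
      group
  obtain ⟨w, hw', e, he, rfl⟩ := hN hzm
  rw [map_mul] at hz₀
  have heq : σ e ∈ Qs hF := by
    rw [eq_inv_of_mul_eq_one_right hz₀]
    exact inv_mem (hQmem.1 (hWQ w hw'))
  obtain ⟨y, hy⟩ := hLL he
  have hy1 : y = 1 := levi_Qs_trivial hF (by rw [hy]; exact heq)
  have he1 : σ e = 1 := by rw [← hy, hy1, map_one]
  rw [hLker e he he1, mul_one]
  rw [he1, mul_one] at hz₀
  exact hWker w hw' hz₀

end CfsgLib.UMult
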