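import Cfsg.Agent.UMult.Induct
import Cfsg.Agent.UMult.Parab
import Cfsg.Agent.Unitary.ThreeTwo
import Cfsg.Agent.Classical.FortyPoints.Iso
import Cfsg.Agent.SpMult.Main
import Cfsg.Agent.CentralCert.UFourThree
import Cfsg.Agent.Coset.U62.Schur.Main

/-!
The bases of the induction: `SU₅(3)`, `SU₅(2)` and `SU₇(2)`.
-/

set_option autoImplicit false
set_option linter.style.haveILetI false
set_option linter.unusedSectionVars false

namespace CfsgLib.UMult

open Matrix CfsgLib.Unitary CfsgLib.Forms CfsgLib.Multiplier CfsgLib.Phan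
open CfsgLib.MinIdxPSU (diagSU diagSU_apply G levi levi_apply proj eq_cons proj_ev proj_emb emb_injective)
open scoped commutatorElement

universe u v

/-- A bound from the multiplier of the central quotient. -/
theorem noStem_of_mult {S : Type u} [Group S] [Finite S] (hperf : commutator S = ⊤) {A : Type v}
    [CommGroup A] [Finite A] (hM : Cfsg.HasSchurMultiplier (S ⧸ Subgroup.center S) A) {ℓ : ℕ}
    (hd : ¬ ℓ * Nat.card (Subgroup.center S) ∣ Nat.card A) : NoStem S ℓ := by
  intro Γ _ _ σ hσ hcard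
  let π := QuotientGroup.mk' (Subgroup.center S)
  have hperfΓ : commutator Γ = ⊤ := by
    rw [eq_top_iff]
    intro g _
    obtain ⟨w, hw, hwg⟩ : σ g ∈ (commutator Γ).map σ := by
      rw [Schur.map_commutator_of_surjective σ hσ.1, hperf]
      exact Subgroup.mem_top _
    have h : w⁻¹ * g ∈ commutator Γ := hσ.2.2 (by
      rw [MonoidHom.mem_ker, map_mul, map_inv, hwg, inv_mul_cancel])
    simpa using mul_mem hw h
  have hstem : Cfsg.IsStemExtension (π.comp σ) := by
    refine ⟨(QuotientGroup.mk'_surjective _).comp hσ.1, fun x hx => ?_, fun x _ => hperfΓ ▸ Subgroup.mem_top x⟩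
    have hx' : σ x ∈ Subgroup.center S := (QuotientGroup.eq_one_iff (σ x)).1 hx
    have hcom : ∀ g, σ x * σ g = σ g * σ x := fun g => (Subgroup.mem_center_iff.1 hx' _).symm
    let ψ : Γ →* Subgroup.center Γ :=
      { toFun := fun g => ⟨⁅x, g⁆, hσ.2.1 (comm_mem_ker hσ.2.1 (hcom g))⟩
        map_one' := Subtype.ext (commutatorElement_one_right _)
        map_mul' := fun a b => Subtype.ext (comm_mul_right hσ.2.1 (hcom b)) }
    refine Subgroup.mem_center_iff.2 fun g => ?_
    have hψ : commutator Γ ≤ ψ.ker := by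
      rw [commutator_def, Subgroup.commutator_le]
      intro a _ b _
      rw [MonoidHom.mem_ker, map_commutatorElement, commutatorElement_eq_one_iff_mul_comm]
      exact Subtype.ext (Subgroup.mem_center_iff.1 (ψ b).2 _)
    have := congrArg Subtype.val (MonoidHom.mem_ker.1 (hψ (hperfΓ ▸ Subgroup.mem_top g : g ∈ commutator Γ)))
    exact (commutatorElement_eq_one_iff_mul_comm.1 this).symm
  obtain ⟨φ, hφ⟩ := hM.2 Γ (π.comp σ) hstem
  refine hd ?_
  have hk : Nat.card (π.comp σ).ker = ℓ * Nat.card (Subgroup.center S) := by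
    have h1 := (π.comp σ).ker.card_mul_index
    rw [Subgroup.index_ker, MonoidHom.range_eq_top.2 hstem.1, Subgroup.card_top] at h1
    have h2 := σ.ker.card_mul_index
    rw [Subgroup.index_ker, MonoidHom.range_eq_top.2 hσ.1, Subgroup.card_top, hcard,
      Subgroup.card_eq_card_quotient_mul_card_subgroup (Subgroup.center S)] at h2
    refine Nat.eq_of_mul_eq_mul_right (Nat.card_pos (α := S ⧸ Subgroup.center S)) (h1.trans ?_)
    rw [← h2]
    ring
  exact hk ▸ Subgroup.card_dvd_of_surjective φ hφ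

variable {F : Type u} [Field F] [Finite F]

theorem proj_cons {k : ℕ} (a b : F) (v : Fin k → F) :
    proj (Fin.cons a (Fin.cons b v) : Fin (k + 1 + 1) → F) = v := by
  funext i
  rfl

/-- The orders. -/
theorem card_su_eq {q n : ℕ} (hF : Nat.card F = q ^ 2) (hn : 1 ≤ n) {c : ℕ}
    (hc : (q + 1) * c = q ^ (n * (n - 1) / 2) *
      ∏ i ∈ Finset.range n, (if Even i then q ^ (i + 1) + 1 else q ^ (i + 1) - 1)) :
    Nat.card (Cfsg.SU n F q) = c := by
  have h := card_SU_mul hF (n := n) hn
  rw [card_GU hF, ← hc] at h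
  exact Nat.eq_of_mul_eq_mul_left (by omega) h

section three

variable (hF : Nat.card F = 3 ^ 2)
include hF

theorem card_four_three : Nat.card (Cfsg.SU 4 F 3) = 13063680 :=
  card_su_eq hF (by norm_num) (by norm_num [Finset.prod_range_succ, Nat.even_iff])

theorem card_five_three : Nat.card (Cfsg.SU 5 F 3) = 258190571520 :=
  card_su_eq hF (by norm_num) (by norm_num [Finset.prod_range_succ, Nat.even_iff])

theorem noStem_four_three : NoStem (Cfsg.SU 4 F 3) 2 := by
  haveI := Fintype.ofFinite F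
  refine noStem_of_mult (commutator_SU_eq_top hF (by norm_num) (by norm_num))
    (CfsgLib.CentralCert.UFourThree.main (F := F) (by rw [← Nat.card_eq_fintype_card, hF]; norm_num)) ?_
  rw [card_center_SU hF (n := 4) (by norm_num)]
  simp

theorem noStem_five_three_char : NoStem (Cfsg.SU 5 F 3) 3 := by
  haveI := Fact.mk Nat.prime_three
  obtain ⟨p, j, hcp, hp, hj, hqp⟩ := exists_char hF
  haveI := hcp
  obtain rfl : p = 3 := ((Nat.prime_dvd_prime_iff_eq hp Nat.prime_three).1 (hqp ▸ dvd_pow_self p hj.ne'))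
  have hm1 : (-1 : F) ^ 3 = -1 := Odd.neg_one_pow (by decide)
  let d : Fin (3 + 1 + 1) → F := fun i => if (i : ℕ) < 2 then -1 else 1
  have hd1 : ∀ i, d i * d i ^ 3 = 1 := fun i => by
    by_cases h : (i : ℕ) < 2
    · simp only [d, if_pos h]; rw [hm1]; norm_num
    · simp only [d, if_neg h]; norm_num
  have hd2 : ∏ i, d i = 1 := by simp [d, Fin.prod_univ_five]
  set t : G 3 F 3 := diagSU d hd1 hd2
  have hsc : ∀ y, suMat t *ᵥ y = Fin.cons (-y 0) (Fin.cons (-y 1) (proj y)) := fun y => by
    funext i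
    rw [diagSU_apply]
    induction i using Fin.cases with
    | zero => simp [d]
    | succ i =>
      induction i using Fin.cases with
      | zero => simp [d]
      | succ i =>
        have hpi : proj y i = y i.succ.succ := rfl
        simp [d, hpi]
  refine noStem_of_loc Nat.prime_three (QL (k := 3) hF)
    (not_dvd_index_QL hF (by norm_num) Nat.prime_three dvd_rfl)
    (loc_QL hF le_rfl Nat.prime_three (noStem_three hF le_rfl Nat.prime_three) (t := t) (lam := -1) (c := 1)
      ?_ ?_ (by rw [hm1]; norm_num) (by simp) ?_ ?_ ?_)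
  · rw [hsc, proj_ev hF]
    conv_rhs => rw [eq_cons (MinIdxPSU.ev hF), proj_ev hF]
    funext i
    induction i using Fin.cases with
    | zero => simp
    | succ i => induction i using Fin.cases <;> simp
  · intro a
    rw [hsc, proj_emb, one_smul]
    simp [MinIdxPSU.emb]
  · rw [hm1, mul_one]
    intro e
    have h2 : ((2 : ℕ) : F) = 0 := by push_cast; linear_combination -e
    have := (CharP.cast_eq_zero_iff F 3 2).1 h2
    omega
  · intro l
    refine Unitary.su_ext fun y => ?_
    rw [suMat_mul, suMat_mul, ← Matrix.mulVec_mulVec, ← Matrix.mulVec_mulVec, hsc, hsc, levi_apply,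
      levi_apply]
    simp [proj_cons]
  · intro i
    by_cases hi : i = ⟨0, by norm_num⟩
    · refine ⟨1, 1, by norm_num, one_pow 1, ?_⟩
      rw [suMat_one, Matrix.one_mulVec, hi]
    · obtain ⟨j, hj0, hji⟩ : ∃ j : Fin 3, j ≠ ⟨0, by norm_num⟩ ∧ j ≠ i :=
        (show ∀ a b : Fin 3, ∃ j : Fin 3, j ≠ a ∧ j ≠ b by decide) _ _
      obtain ⟨g, hg⟩ := exists_swap hF (Ne.symm hi) j
      refine ⟨g, 2, by norm_num, Phan.act_eq_of_basis fun m => ?_, ?_⟩
      · rw [pow_two, act_mul, hg, act_smul, hg, smul_smul, act_one, Equiv.swap_apply_self]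
        by_cases hm : m = j
        · subst hm
          rw [Equiv.swap_apply_of_ne_of_ne hj0 hji, if_pos rfl]
          simp
        · have : Equiv.swap (⟨0, by norm_num⟩ : Fin 3) i m ≠ j := fun e => hm (by
            have h := congrArg (Equiv.swap (⟨0, by norm_num⟩ : Fin 3) i) e
            rwa [Equiv.swap_apply_self, Equiv.swap_apply_of_ne_of_ne hj0 hji] at h)
          rw [if_neg hm, if_neg this]
          simp
      · have h := hg ⟨0, by norm_num⟩
        rw [if_neg (Ne.symm hj0), one_smul, Equiv.swap_apply_left] at h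
        exact h

theorem split_five_three : Split (Cfsg.SU 5 F 3) := by
  refine split_of_noStem (commutator_SU_eq_top hF (by norm_num) (by norm_num)) fun ℓ hℓ => ?_
  obtain ⟨p, j, hcp, hp, hj, hqp⟩ := exists_char hF
  haveI := hcp
  obtain rfl : p = 3 := ((Nat.prime_dvd_prime_iff_eq hp Nat.prime_three).1 (hqp ▸ dvd_pow_self p hj.ne'))
  haveI := Fact.mk hp
  by_cases h3 : ℓ = 3
  · subst h3; exact noStem_five_three_char hF
  by_cases h2 : ℓ = 2
  · subst h2
    refine noStem_of_loc hℓ (lineStab 5 F 3 (Fin.last 4)) ?_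
      (loc_line hF (m := 4) (by norm_num) (by norm_num) 3 hℓ (by norm_num) (noStem_four_three hF))
    have h : (lineStab 5 F 3 (Fin.last 4)).index * (Nat.card (Cfsg.SU 4 F 3) * (3 + 1)) =
        Nat.card (Cfsg.SU 5 F 3) := index_lineStab hF (m := 4) (by norm_num)
    rw [card_four_three hF, card_five_three hF] at h
    norm_num at h
    omega
  refine noStem_of_not_sq_dvd _ hℓ fun h => ?_
  rw [card_five_three hF] at h
  have hr : ℓ ^ 2 ∣ 5 * 7 * 61 := by
    refine Nat.Coprime.dvd_of_dvd_mul_left (k := ℓ ^ 2) (m := 3 ^ 10 * 2 ^ 11) ?_ (by norm_num; exact h)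
    refine Nat.Coprime.pow_left 2 (Nat.Coprime.mul_right ?_ ?_) <;> refine Nat.Coprime.pow_right _ ?_
    · exact (Nat.coprime_primes hℓ Nat.prime_three).2 h3
    · exact (Nat.coprime_primes hℓ Nat.prime_two).2 h2
  have hd : ℓ ∣ 5 * 7 * 61 := (dvd_pow_self ℓ two_ne_zero).trans hr
  rw [hℓ.dvd_mul, hℓ.dvd_mul, Nat.prime_dvd_prime_iff_eq hℓ (by norm_num),
    Nat.prime_dvd_prime_iff_eq hℓ (by norm_num), Nat.prime_dvd_prime_iff_eq hℓ (by norm_num)] at hd
  rcases hd with (rfl | rfl) | rfl <;> norm_num at hr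

end three

section two

variable (hF : Nat.card F = 2 ^ 2)
include hF

theorem card_four_two : Nat.card (Cfsg.SU 4 F 2) = 25920 :=
  card_su_eq hF (by norm_num) (by norm_num [Finset.prod_range_succ, Nat.even_iff])

theorem card_five_two : Nat.card (Cfsg.SU 5 F 2) = 13685760 :=
  card_su_eq hF (by norm_num) (by norm_num [Finset.prod_range_succ, Nat.even_iff])

theorem card_six_two : Nat.card (Cfsg.SU 6 F 2) = 27590492160 :=
  card_su_eq hF (by norm_num) (by norm_num [Finset.prod_range_succ, Nat.even_iff])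

theorem card_seven_two : Nat.card (Cfsg.SU 7 F 2) = 227787103272960 :=
  card_su_eq hF (by norm_num) (by norm_num [Finset.prod_range_succ, Nat.even_iff])

theorem noStem_four_two : NoStem (Cfsg.SU 4 F 2) 3 := by
  haveI := Fintype.ofFinite F
  haveI : Fact (Nat.Prime 3) := ⟨Nat.prime_three⟩
  haveI : NeZero (Nat.gcd 2 (Fintype.card (ULift.{u} (ZMod 3)) - 1)) :=
    ⟨(Nat.gcd_pos_of_pos_left _ (by norm_num)).ne'⟩
  have hK : Fintype.card (ULift.{u} (ZMod 3)) = 3 := by simp
  obtain ⟨e⟩ := CfsgLib.Linear.Forty.nonempty_iso (F := F) (K := ULift.{u} (ZMod 3))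
    (by rw [← Nat.card_eq_fintype_card, hF]; norm_num) hK
  have hS := CfsgLib.SpMult.hasCyclicSchurMultiplier_psp (F := ULift.{u} (ZMod 3)) (m := 2) le_rfl
    (fun _ => hK.ge) (by simp)
  refine noStem_of_mult (commutator_SU_eq_top hF (by norm_num) (by norm_num))
    (A := Multiplicative (ZMod (Nat.gcd 2 (Fintype.card (ULift.{u} (ZMod 3)) - 1)))) ?_ ?_
  · obtain ⟨⟨Γ, i1, i2, σ, hσ, he⟩, hall⟩ := hS
    refine ⟨⟨Γ, i1, i2, e.symm.toMonoidHom.comp σ, ?_, ?_⟩, fun Γ' _ _ σ' hσ' => ?_⟩
    · have hk := MonoidHom.ker_mulEquiv_comp σ e.symm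
      exact ⟨e.symm.surjective.comp hσ.1, hk ▸ hσ.2.1, hk ▸ hσ.2.2⟩
    · obtain ⟨f⟩ := he
      exact ⟨(MulEquiv.subgroupCongr (MonoidHom.ker_mulEquiv_comp σ e.symm)).trans f⟩
    · have hk := MonoidHom.ker_mulEquiv_comp σ' e
      obtain ⟨π, hπ⟩ := hall Γ' (e.toMonoidHom.comp σ')
        ⟨e.surjective.comp hσ'.1, hk ▸ hσ'.2.1, hk ▸ hσ'.2.2⟩
      exact ⟨(MulEquiv.subgroupCongr hk).toMonoidHom.comp π,
        (MulEquiv.subgroupCongr hk).surjective.comp hπ⟩
  · rw [hK, card_center_SU hF (n := 4) (by norm_num)]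
    simp

theorem noStem_three_two : NoStem (Cfsg.SU 3 F 2) 2 := by
  haveI := Fact.mk Nat.prime_two
  obtain ⟨N, hN, hN9, -, ⟨e⟩, -, -⟩ := psu32_structure hF
  have hc : Nat.card (Cfsg.SU 3 F 2) = 216 :=
    card_su_eq hF (by norm_num) (by norm_num [Finset.prod_range_succ, Nat.even_iff])
  intro Γ _ _ σ hσ hcard
  have hPk : IsPGroup 2 σ.ker := IsPGroup.of_card (n := 1) (by rw [hcard, pow_one])
  obtain ⟨P, hP⟩ := hPk.exists_le_sylow
  have hstem := SL2Mult.isStemExtension_sylow hσ P
  set Q := P.mapSurjective hσ.1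
  have hQ : (Q : Subgroup (Cfsg.SU 3 F 2)) = (P : Subgroup Γ).map σ := Sylow.coe_mapSurjective hσ.1 P
  set R := (P : Subgroup Γ).map σ
  have hR8 : Nat.card R = 8 := by
    obtain ⟨i, hi⟩ := IsPGroup.iff_card.1 (P.isPGroup'.map σ)
    change Nat.card R = 2 ^ i at hi
    have hnd : ¬ 2 ∣ R.index := hQ ▸ Q.not_dvd_index
    have hm := R.card_mul_index
    rw [hc, hi] at hm
    have h1 : 2 ^ i ∣ 216 := Dvd.intro _ hm
    have hle : i ≤ 7 := by
      by_contra h
      have h2 := Nat.le_of_dvd (by norm_num) h1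
      have h3 : 2 ^ 8 ≤ 2 ^ i := Nat.pow_le_pow_right (by norm_num) (by omega)
      norm_num at h3
      omega
    interval_cases i
    all_goals first | omega | norm_num at h1 | (norm_num at hm; omega)
  let f : R →* QuaternionGroup 2 :=
    e.toMonoidHom.comp ((QuotientGroup.mk' N).comp ((QuotientGroup.mk' _).comp R.subtype))
  have hf : Function.Injective f := by
    rw [injective_iff_map_eq_one]
    rintro ⟨x, hx⟩ h
    have h' : QuotientGroup.mk' (Subgroup.center (Cfsg.SU 3 F 2)) x ∈ N :=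
      (QuotientGroup.eq_one_iff _).1 (e.injective (h.trans (map_one e).symm))
    have h9 : (QuotientGroup.mk' (Subgroup.center (Cfsg.SU 3 F 2)) x) ^ 9 = 1 := by
      have := pow_card_eq_one' (G := N) (x := ⟨_, h'⟩)
      rw [hN9] at this
      exact congrArg Subtype.val this
    rw [← map_pow] at h9
    have h27 : x ^ 27 = 1 := by
      have hz : x ^ 9 ∈ Subgroup.center (Cfsg.SU 3 F 2) := (QuotientGroup.eq_one_iff _).1 h9
      have := pow_card_eq_one' (x := (⟨_, hz⟩ : Subgroup.center (Cfsg.SU 3 F 2)))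
      rw [card_center_SU hF (n := 3) (by norm_num), Nat.gcd_self] at this
      have h3 : (x ^ 9) ^ 3 = 1 := congrArg Subtype.val this
      rw [← pow_mul] at h3
      exact h3
    have h8 : x ^ 8 = 1 := by
      have := pow_card_eq_one' (G := R) (x := ⟨x, hx⟩)
      rw [hR8] at this
      exact congrArg Subtype.val this
    exact Subtype.ext ((pow_eq_one_iff_of_coprime (show Nat.Coprime 27 8 by norm_num)).1 ⟨h27, h8⟩)
  have hbij : Function.Bijective f := (Nat.bijective_iff_injective_and_card f).2 ⟨hf, by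
    rw [hR8, Nat.card_eq_fintype_card, QuaternionGroup.card]⟩
  let e' := MulEquiv.ofBijective f hbij
  let τ := e'.toMonoidHom.comp (σ.subgroupMap (P : Subgroup Γ))
  have hker : τ.ker = (σ.subgroupMap (P : Subgroup Γ)).ker := MonoidHom.ker_mulEquiv_comp _ e'
  have hτ : Cfsg.IsStemExtension τ :=
    ⟨e'.surjective.comp hstem.1, hker ▸ hstem.2.1, hker ▸ hstem.2.2⟩
  have hb := CfsgLib.StemExt.quaternion_ker hτ
  rw [hker] at hb
  have hbot : σ.ker = ⊥ := by
    rw [eq_bot_iff]
    intro z hz
    have h1 : (⟨z, hP hz⟩ : (P : Subgroup Γ)) ∈ (σ.subgroupMap (P : Subgroup Γ)).ker :=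
      MonoidHom.mem_ker.2 (Subtype.ext hz)
    rw [hb, Subgroup.mem_bot] at h1
    exact Subgroup.mem_bot.2 (congrArg Subtype.val h1)
  rw [hbot, Subgroup.card_bot] at hcard
  omega

/-- The radical criterion at the prime two. -/
theorem noStem_char_two {k : ℕ} (hk : 3 ≤ k) (hk3 : (2 * k + 1) % 3 ≠ 0)
    (hL : NoStem (Cfsg.SU k F 2) 2) : NoStem (G k F 2) 2 := by
  haveI := Fintype.ofFinite F
  have h2 := two_eq_zero' hF
  haveI : CharP F 2 := (CharP.charP_iff_prime_eq_zero Nat.prime_two).2 h2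
  obtain ⟨c, hc0, hc1⟩ : ∃ c : F, c ≠ 0 ∧ c ≠ 1 := by
    by_contra h
    push Not at h
    have : Fintype.card F ≤ 2 := by
      classical
      have hsub : (Finset.univ : Finset F) ⊆ {0, 1} := fun c _ => by
        rcases eq_or_ne c 0 with rfl | hc
        · simp
        · simp [h c hc]
      exact (Finset.card_le_card hsub).trans Finset.card_le_two
    rw [← Nat.card_eq_fintype_card, hF] at this
    norm_num at this
  have hc3 : c ^ 3 = 1 := cube_eq_one hF hc0
  have hpm : ∀ n : ℕ, c ^ n = c ^ (n % 3) := fun n => by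
    conv_lhs => rw [← Nat.div_add_mod n 3, pow_add, pow_mul, hc3, one_pow, one_mul]
  let d : Fin (k + 1 + 1) → F := Fin.cons (c ^ k) (Fin.cons (c ^ k) fun _ => c)
  have hd1 : ∀ i, d i * d i ^ 2 = 1 := fun i => by
    induction i using Fin.cases with
    | zero => simp only [d, Fin.cons_zero]; rw [← pow_succ', ← pow_mul, mul_comm, pow_mul, hc3, one_pow]
    | succ i =>
      induction i using Fin.cases with
      | zero =>
        simp only [d, Fin.cons_succ, Fin.cons_zero]
        rw [← pow_succ', ← pow_mul, mul_comm, pow_mul, hc3, one_pow]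
      | succ i => simp only [d, Fin.cons_succ]; rw [← pow_succ', hc3]
  have hd2 : ∏ i, d i = 1 := by
    simp only [d, Fin.prod_univ_succ, Fin.cons_zero, Fin.cons_succ]
    rw [Finset.prod_const, Finset.card_univ, Fintype.card_fin, ← pow_add, ← pow_add,
      show k + (k + k) = 3 * k by ring, pow_mul, hc3, one_pow]
  set t : G k F 2 := diagSU d hd1 hd2
  have hsc : ∀ y, suMat t *ᵥ y = Fin.cons (c ^ k * y 0) (Fin.cons (c ^ k * y 1) (c • proj y)) := fun y => by
    funext i
    rw [diagSU_apply]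
    induction i using Fin.cases with
    | zero => simp [d]
    | succ i =>
      induction i using Fin.cases with
      | zero => simp [d]
      | succ i =>
        have hpi : proj y i = y i.succ.succ := rfl
        simp [d, hpi]
  refine noStem_of_loc Nat.prime_two (QL (k := k) hF)
    (not_dvd_index_QL hF (by omega) Nat.prime_two dvd_rfl)
    (loc_QL hF hk Nat.prime_two hL (t := t) (lam := c ^ k) (c := c) ?_ ?_ ?_ ?_ ?_ ?_ ?_)
  · rw [hsc, proj_ev hF, smul_zero]
    conv_rhs => rw [eq_cons (MinIdxPSU.ev hF), proj_ev hF]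
    funext i
    induction i using Fin.cases with
    | zero => simp
    | succ i => induction i using Fin.cases <;> simp
  · intro a
    rw [hsc, proj_emb]
    funext i
    induction i using Fin.cases with
    | zero => simp [MinIdxPSU.emb]
    | succ i => induction i using Fin.cases <;> simp [MinIdxPSU.emb]
  · rw [← pow_succ, ← pow_mul, mul_comm, pow_mul, hc3, one_pow]
  · rw [← pow_succ', hc3]
  · rw [← pow_mul, ← pow_succ, hpm]
    have h3 : (k * 2 + 1) % 3 = 1 ∨ (k * 2 + 1) % 3 = 2 := by omega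
    rcases h3 with h3 | h3 <;> rw [h3]
    · rwa [pow_one]
    · intro e
      have : c = 1 := by linear_combination hc3 - c * e
      exact hc1 this
  · intro l
    refine Unitary.su_ext fun y => ?_
    rw [suMat_mul, suMat_mul, ← Matrix.mulVec_mulVec, ← Matrix.mulVec_mulVec, hsc, hsc, levi_apply,
      levi_apply]
    simp [proj_cons, Matrix.mulVec_smul]
  · intro i
    by_cases hi : i = ⟨0, by omega⟩
    · refine ⟨1, 1, by norm_num, one_pow 1, ?_⟩
      rw [suMat_one, Matrix.one_mulVec, hi]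
    · set i0 : Fin k := ⟨0, by omega⟩
      obtain ⟨j, hj0, hji⟩ : ∃ j : Fin k, j ≠ i0 ∧ j ≠ i := by
        by_contra h
        push Not at h
        have : (Finset.univ : Finset (Fin k)) ⊆ {i0, i} := fun e _ => by
          by_cases he : e = i0
          · simp [he]
          · simp [h e he]
        have h1 := (Finset.card_le_card this).trans Finset.card_le_two
        simp at h1
        omega
      obtain ⟨g, hg⟩ := exists_swap hF (Ne.symm hj0) j
      obtain ⟨g', hg'⟩ := exists_swap hF (Ne.symm hi) j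
      have hneg : (-1 : F) = 1 := CharTwo.neg_eq _
      set π := Equiv.swap i0 j * Equiv.swap i0 i
      have hu : ∀ m, act (g * g') (ev m) = ev (π m) := fun m => by
        rw [act_mul, hg', act_smul, hg, smul_smul]
        simp only [hneg, ite_self, mul_one, one_smul]
        rfl
      have hn : ∀ (n : ℕ) m, act ((g * g') ^ n) (ev m) = ev ((π ^ n) m) := by
        intro n
        induction n with
        | zero => intro m; rw [pow_zero, pow_zero, act_one]; rfl
        | succ n ih => intro m; rw [pow_succ, act_mul, hu, ih, pow_succ, Equiv.Perm.mul_apply]; rfl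
      refine ⟨g * g', 3, by norm_num, Phan.act_eq_of_basis fun m => ?_, ?_⟩
      · have h3 : π ^ 3 = 1 := by
          rw [← (Equiv.Perm.isThreeCycle_swap_mul_swap_same (Ne.symm hj0) (Ne.symm hi) hji).orderOf]
          exact pow_orderOf_eq_one _
        rw [hn, h3, act_one]
        rfl
      · have h := hu i0
        rw [show π i0 = i by
          simp [π, Equiv.swap_apply_of_ne_of_ne hi (Ne.symm hji)]] at h
        exact h

theorem split_five_two : Split (Cfsg.SU 5 F 2) := by
  haveI : CharP F 2 := (CharP.charP_iff_prime_eq_zero Nat.prime_two).2 (two_eq_zero' hF)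
  haveI := Fact.mk Nat.prime_two
  refine split_of_noStem (commutator_SU_eq_top hF (by norm_num) (by norm_num)) fun ℓ hℓ => ?_
  by_cases h2 : ℓ = 2
  · subst h2
    exact noStem_char_two hF (k := 3) le_rfl (by norm_num) (noStem_three_two hF)
  by_cases h3 : ℓ = 3
  · subst h3
    refine noStem_of_loc hℓ (lineStab 5 F 2 (Fin.last 4)) ?_
      (loc_line hF (m := 4) (by norm_num) (by norm_num) 2 hℓ (by norm_num) (noStem_four_two hF))
    have h : (lineStab 5 F 2 (Fin.last 4)).index * (Nat.card (Cfsg.SU 4 F 2) * (2 + 1)) =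
        Nat.card (Cfsg.SU 5 F 2) := index_lineStab hF (m := 4) (by norm_num)
    rw [card_four_two hF, card_five_two hF] at h
    norm_num at h
    omega
  refine noStem_of_not_sq_dvd _ hℓ fun h => ?_
  rw [card_five_two hF] at h
  have hr : ℓ ^ 2 ∣ 5 * 11 := by
    refine Nat.Coprime.dvd_of_dvd_mul_left (k := ℓ ^ 2) (m := 2 ^ 10 * 3 ^ 5) ?_ (by norm_num; exact h)
    refine Nat.Coprime.pow_left 2 (Nat.Coprime.mul_right ?_ ?_) <;> refine Nat.Coprime.pow_right _ ?_
    · exact (Nat.coprime_primes hℓ Nat.prime_two).2 h2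
    · exact (Nat.coprime_primes hℓ Nat.prime_three).2 h3
  have hd : ℓ ∣ 5 * 11 := (dvd_pow_self ℓ two_ne_zero).trans hr
  rw [hℓ.dvd_mul, Nat.prime_dvd_prime_iff_eq hℓ (by norm_num),
    Nat.prime_dvd_prime_iff_eq hℓ (by norm_num)] at hd
  rcases hd with rfl | rfl <;> norm_num at hr

theorem noStem_six_two : NoStem (Cfsg.SU 6 F 2) 3 := by
  haveI := Fintype.ofFinite F
  refine noStem_of_mult (commutator_SU_eq_top hF (by norm_num) (by norm_num))
    (CfsgLib.Coset.U62.Schur.multiplier (F := F) (by rw [← Nat.card_eq_fintype_card, hF]; norm_num)) ?_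
  rw [card_center_SU hF (n := 6) (by norm_num)]
  simp

theorem split_seven_two : Split (Cfsg.SU 7 F 2) := by
  haveI : CharP F 2 := (CharP.charP_iff_prime_eq_zero Nat.prime_two).2 (two_eq_zero' hF)
  haveI := Fact.mk Nat.prime_two
  refine split_of_noStem (commutator_SU_eq_top hF (by norm_num) (by norm_num)) fun ℓ hℓ => ?_
  by_cases h2 : ℓ = 2
  · subst h2
    exact noStem_char_two hF (k := 5) (by norm_num) (by norm_num)
      (noStem_of_split (split_five_two hF) hℓ)
  by_cases h3 : ℓ = 3
  · subst h3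
    refine noStem_of_loc hℓ (lineStab 7 F 2 (Fin.last 6)) ?_
      (loc_line hF (m := 6) (by norm_num) (by norm_num) 2 hℓ (by norm_num) (noStem_six_two hF))
    have h : (lineStab 7 F 2 (Fin.last 6)).index * (Nat.card (Cfsg.SU 6 F 2) * (2 + 1)) =
        Nat.card (Cfsg.SU 7 F 2) := index_lineStab hF (m := 6) (by norm_num)
    rw [card_six_two hF, card_seven_two hF] at h
    norm_num at h
    omega
  refine noStem_of_not_sq_dvd _ hℓ fun h => ?_
  rw [card_seven_two hF] at h
  have hr : ℓ ^ 2 ∣ 5 * 7 * 11 * 43 := by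
    refine Nat.Coprime.dvd_of_dvd_mul_left (k := ℓ ^ 2) (m := 2 ^ 21 * 3 ^ 8) ?_ (by norm_num; exact h)
    refine Nat.Coprime.pow_left 2 (Nat.Coprime.mul_right ?_ ?_) <;> refine Nat.Coprime.pow_right _ ?_
    · exact (Nat.coprime_primes hℓ Nat.prime_two).2 h2
    · exact (Nat.coprime_primes hℓ Nat.prime_three).2 h3
  have hd : ℓ ∣ 5 * 7 * 11 * 43 := (dvd_pow_self ℓ two_ne_zero).trans hr
  rw [hℓ.dvd_mul, hℓ.dvd_mul, hℓ.dvd_mul, Nat.prime_dvd_prime_iff_eq hℓ (by norm_num),
    Nat.prime_dvd_prime_iff_eq hℓ (by norm_num), Nat.prime_dvd_prime_iff_eq hℓ (by norm_num),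
    Nat.prime_dvd_prime_iff_eq hℓ (by norm_num)] at hd
  rcases hd with ((rfl | rfl) | rfl) | rfl <;> norm_num at hr

end two

end CfsgLib.UMult
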